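import Groth.Agent.NormAmpleX.Data
import Groth.Agent.H23.Frame
import Mathlib.RingTheory.Norm.Basic

/-!
# The norm of a finite locally free morphism
-/

universe u

set_option backward.isDefEq.respectTransparency false
set_option backward.isDefEq.respectTransparency.types false
set_option linter.style.haveILetI false
set_option maxHeartbeats 800000

open CategoryTheory AlgebraicGeometry TopologicalSpace

namespace Groth.Agent.NormAmpleX

open Groth.Agent Groth.Agent.H23

/-- Norms commute with maps carrying a basis to a basis. -/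
theorem norm_map {R R' S S' : Type*} [CommRing R] [CommRing R'] [CommRing S] [CommRing S']
    [Algebra R S] [Algebra R' S'] (ρ : R →+* R') (σ : S →+* S')
    (hc : ∀ r, σ (algebraMap R S r) = algebraMap R' S' (ρ r)) {ι : Type*} [Fintype ι]
    (b : Module.Basis ι R S) (b' : Module.Basis ι R' S') (hb : ∀ i, b' i = σ (b i)) (a : S) :
    Algebra.norm R' (σ a) = ρ (Algebra.norm R a) := by
  classical
  rw [Algebra.norm_eq_matrix_det b', Algebra.norm_eq_matrix_det b, RingHom.map_det]
  congr 1
  ext i j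
  rw [RingHom.mapMatrix_apply, Matrix.map_apply, Algebra.leftMulMatrix_eq_repr_mul,
    Algebra.leftMulMatrix_eq_repr_mul]
  have h : σ a * b' j = ∑ l, ρ (b.repr (a * b j) l) • b' l := by
    rw [hb, ← map_mul]
    conv_lhs => rw [← b.sum_repr (a * b j)]
    simp only [map_sum, Algebra.smul_def, map_mul, hc, hb]
  rw [h, b'.repr_sum_self]

/-- An element is invertible iff its norm is, for a free algebra. -/
theorem isUnit_of_isUnit_norm {R S : Type*} [CommRing R] [CommRing S] [Algebra R S] {ι : Type*} [Fintype ι]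
    (b : Module.Basis ι R S) {a : S} (h : IsUnit (Algebra.norm R a)) : IsUnit a := by
  classical
  rw [Algebra.norm_eq_matrix_det b, ← Matrix.isUnit_iff_isUnit_det] at h
  obtain ⟨m, hm⟩ := h.exists_right_inv
  refine IsUnit.of_mul_eq_one (Matrix.toLin b b m 1) ?_
  have h1 := congrArg (fun q => Matrix.toLin b b q (1 : S)) hm
  simp only [Matrix.toLin_mul b b b, Matrix.toLin_one, LinearMap.comp_apply, LinearMap.id_apply] at h1
  rw [show Matrix.toLin b b (Algebra.leftMulMatrix b a) = Algebra.lmul R S a from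
    by rw [Algebra.leftMulMatrix_apply]; exact Matrix.toLin_toMatrix b b _] at h1
  exact h1

variable {X X' : Scheme.{u}} (g : X' ⟶ X)

/-- The direct image of the structure module. -/
noncomputable abbrev pushO : X.Modules := (Coh.push g).obj (Coh.structureModule X')

/-- The algebra of sections over an open. -/
@[reducible] noncomputable def alg (W : X.Opens) : Algebra Γ(X, W) Γ(X', g ⁻¹ᵁ W) := (g.app W).hom.toAlgebra

/-- The basis on a smaller open given by a frame of the direct image. -/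
noncomputable def basisOf {n : ℕ} {U : X.Opens} {s : Fin n → Γ(pushO g, U)} (hs : Frame.IsFrame (pushO g) s)
    (W : X.Opens) (h : W ≤ U) : letI := alg g W; Module.Basis (Fin n) Γ(X, W) Γ(X', g ⁻¹ᵁ W) :=
  letI := alg g W
  Module.Basis.ofEquivFun (LinearEquiv.ofBijective
    ({ toFun := fun c => Frame.comb (pushO g) s W h c
       map_add' := fun c d => by
        show Frame.comb (pushO g) s W h (c + d) = Frame.comb (pushO g) s W h c + Frame.comb (pushO g) s W h d
        simp [Frame.comb, add_smul, Finset.sum_add_distrib]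
       map_smul' := fun r c => by
        show Frame.comb (pushO g) s W h (r • c) = r • Frame.comb (pushO g) s W h c
        simp [Frame.comb, Finset.smul_sum, mul_smul] } :
      (Fin n → Γ(X, W)) →ₗ[Γ(X, W)] Γ(X', g ⁻¹ᵁ W))
    (hs W h)).symm

theorem basisOf_apply {n : ℕ} {U : X.Opens} {s : Fin n → Γ(pushO g, U)} (hs : Frame.IsFrame (pushO g) s)
    (W : X.Opens) (h : W ≤ U) (i : Fin n) :
    basisOf g hs W h i = X'.presheaf.map (homOfLE (g.preimage_mono h)).op (s i) := by
  classical
  letI := alg g W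
  rw [basisOf, Module.Basis.coe_ofEquivFun]
  show Frame.comb (pushO g) s W h (Pi.single i 1) = _
  rw [Frame.comb, Finset.sum_eq_single i]
  · rw [Pi.single_eq_same, one_smul]; rfl
  · intro j _ hj; rw [Pi.single_eq_of_ne hj, zero_smul]
  · intro hi; exact absurd (Finset.mem_univ i) hi

/-- A frame of rank `n` dividing `D` on `W`. -/
def OkFree (P : X.Opens) (D : ℕ) (W : X.Opens) : Prop :=
  W ≤ P ∧ ∃ (n : ℕ) (s : Fin n → Γ(pushO g, W)), Frame.IsFrame (pushO g) s ∧ 0 < n ∧ n ∣ D

variable {g}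

/-- The rank. -/
noncomputable def rk {P : X.Opens} {D : ℕ} {W : X.Opens} (h : OkFree g P D W) : ℕ := h.2.choose

/-- The norm on an open with a frame. -/
noncomputable def normW {P : X.Opens} {D : ℕ} {W : X.Opens} (h : OkFree g P D W) :
    Γ(X', g ⁻¹ᵁ W) →* Γ(X, W) :=
  letI := alg g W
  (powMonoidHom (D / rk h)).comp (Algebra.norm Γ(X, W) : Γ(X', g ⁻¹ᵁ W) →* Γ(X, W))

theorem normW_res {P : X.Opens} {D : ℕ} {W W' : X.Opens} (hW : OkFree g P D W) (hW' : OkFree g P D W')
    (h : W' ≤ W) (a : Γ(X', g ⁻¹ᵁ W)) :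
    AModX.resR h (normW hW a) = normW hW' (AModX.resR (g.preimage_mono h) a) := by
  rcases subsingleton_or_nontrivial Γ(X, W') with h1 | h1
  · exact Subsingleton.elim _ _
  obtain ⟨s, hs, -, -⟩ := hW.2.choose_spec
  obtain ⟨s', hs', -, -⟩ := hW'.2.choose_spec
  letI := alg g W
  letI := alg g W'
  have hrk : rk hW = rk hW' := by
    have e1 := Module.finrank_eq_card_basis (basisOf g hs W' h)
    have e2 := Module.finrank_eq_card_basis (basisOf g hs' W' le_rfl)
    rw [Fintype.card_fin] at e1 e2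
    exact e1.symm.trans e2
  show AModX.resR h (Algebra.norm Γ(X, W) a ^ (D / rk hW)) = Algebra.norm Γ(X, W') _ ^ (D / rk hW')
  rw [map_pow, hrk]
  refine congrArg (· ^ _) (norm_map (AModX.resR h) (AModX.resR (g.preimage_mono h)) (fun r => ?_)
    (basisOf g hs W le_rfl) (basisOf g hs W' h) (fun i => ?_) a).symm
  · show X'.presheaf.map _ ((g.app W).hom r) = (g.app W').hom (X.presheaf.map _ r)
    exact (congr($(g.naturality (homOfLE h).op).hom r)).symm
  · rw [basisOf_apply, basisOf_apply]
    show _ = X'.presheaf.map _ (X'.presheaf.map _ _)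
    rw [← ConcreteCategory.comp_apply, ← X'.presheaf.map_comp]
    rfl

theorem normW_const {P : X.Opens} {D : ℕ} {W : X.Opens} (hW : OkFree g P D W) (c : Γ(X, W)) :
    normW hW (g.app W c) = c ^ D := by
  obtain ⟨s, hs, -, hd⟩ := hW.2.choose_spec
  letI := alg g W
  show Algebra.norm Γ(X, W) (algebraMap Γ(X, W) Γ(X', g ⁻¹ᵁ W) c) ^ (D / rk hW) = _
  rw [Algebra.norm_algebraMap_of_basis (basisOf g hs W le_rfl), Fintype.card_fin, ← pow_mul]
  exact congrArg (c ^ ·) (Nat.mul_div_cancel' hd)

theorem normW_vanish {P : X.Opens} {D : ℕ} (hD : 0 < D) {W : X.Opens} (hW : OkFree g P D W) [Surjective g]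
    (a : Γ(X', g ⁻¹ᵁ W)) (y : X) (hy : y ∈ W) (h : ∀ z : X', g z = y → z ∉ X'.basicOpen a) :
    y ∉ X.basicOpen (normW hW a) := fun hyN => by
  obtain ⟨s, hs, hn, hd⟩ := hW.2.choose_spec
  let W₁ := X.basicOpen (normW hW a)
  have hle : W₁ ≤ W := X.basicOpen_le _
  letI := alg g W
  letI := alg g W₁
  have hne : D / rk hW ≠ 0 := (Nat.div_pos (Nat.le_of_dvd hD hd) hn).ne'
  have h1 : IsUnit (AModX.resR hle (normW hW a)) :=
    RingedSpace.isUnit_res_basicOpen X.toRingedSpace (normW hW a)
  change IsUnit (AModX.resR hle (Algebra.norm Γ(X, W) a ^ (D / rk hW))) at h1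
  rw [map_pow, isUnit_pow_iff hne,
    ← norm_map (AModX.resR hle) (AModX.resR (g.preimage_mono hle)) (fun r => by
      show X'.presheaf.map _ ((g.app W).hom r) = (g.app W₁).hom (X.presheaf.map _ r)
      exact (congr($(g.naturality (homOfLE hle).op).hom r)).symm)
      (basisOf g hs W le_rfl) (basisOf g hs W₁ hle) (fun i => by
      rw [basisOf_apply, basisOf_apply]
      show _ = X'.presheaf.map _ (X'.presheaf.map _ _)
      rw [← ConcreteCategory.comp_apply, ← X'.presheaf.map_comp]
      rfl) a] at h1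
  obtain ⟨z, hz⟩ := g.surjective y
  have h2 := (isUnit_of_isUnit_norm (basisOf g hs W₁ hle) h1).map (X'.presheaf.germ (g ⁻¹ᵁ W₁) z
    (show g z ∈ W₁ from hz ▸ hyN)).hom
  refine h z hz ((X'.mem_basicOpen a z (show g z ∈ W from hz ▸ hy)).2 ?_)
  rwa [show (X'.presheaf.germ (g ⁻¹ᵁ W₁) z _).hom (AModX.resR (g.preimage_mono hle) a) =
    X'.presheaf.germ (g ⁻¹ᵁ W) z (show g z ∈ W from hz ▸ hy) a from
      TopCat.Presheaf.germ_res_apply X'.presheaf (homOfLE (g.preimage_mono hle)) z _ a] at h2

theorem frame_res {n : ℕ} {U : X.Opens} {s : Fin n → Γ(pushO g, U)} (hs : Frame.IsFrame (pushO g) s)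
    {V : X.Opens} (h : V ≤ U) : Frame.IsFrame (pushO g) fun i => (pushO g).presheaf.map (homOfLE h).op (s i) := by
  intro W hW
  have : Frame.comb (pushO g) (fun i => (pushO g).presheaf.map (homOfLE h).op (s i)) W hW =
      Frame.comb (pushO g) s W (hW.trans h) := by
    funext c
    refine Finset.sum_congr rfl fun i _ => congrArg (c i • ·) ?_
    rw [← ConcreteCategory.comp_apply, ← (pushO g).presheaf.map_comp]
    rfl
  rw [this]
  exact hs W _

/-- The norm of a finite locally free surjective morphism, below a quasi-compact open. -/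
theorem nonempty_normData_of_locFree [Surjective g] (hfree : FlatMod.IsFinLocFree (pushO g)) {P : X.Opens}
    (hP : IsCompact (P : Set X)) : Nonempty (NormData g P) := by
  classical
  have hx : ∀ x : X, ∃ (U : X.Opens) (n : ℕ) (s : Fin n → Γ(pushO g, U)),
      x ∈ U ∧ Frame.IsFrame (pushO g) s ∧ 0 < n := fun x => by
    obtain ⟨U, n, hx, ⟨e⟩⟩ := hfree x
    obtain ⟨s, hs⟩ := Frame.exists_frame e
    refine ⟨U, n, s, hx, hs, Nat.pos_of_ne_zero fun hn => ?_⟩
    subst hn
    obtain ⟨c, hc⟩ := (hs U le_rfl).2 (show Γ(pushO g, U) from (1 : Γ(X', g ⁻¹ᵁ U)))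
    obtain ⟨z, hz⟩ := g.surjective x
    have h1 : (1 : Γ(X', g ⁻¹ᵁ U)) = 0 := hc.symm.trans Finset.sum_empty
    have h2 := congrArg (X'.presheaf.germ (g ⁻¹ᵁ U) z (show g z ∈ U from hz ▸ hx)).hom h1
    rw [map_one, map_zero] at h2
    exact one_ne_zero h2
  choose U n s hxU hs hn using hx
  obtain ⟨S, hS⟩ := hP.elim_finite_subcover (fun x => (U x : Set X)) (fun x => (U x).2)
    (fun x _ => Set.mem_iUnion.2 ⟨x, hxU x⟩)
  refine ⟨⟨∏ x ∈ S, n x, Finset.prod_pos fun x _ => hn x, OkFree g P (∏ x ∈ S, n x), fun x W hxW hWP => ?_,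
    fun W h => normW h, fun W W' hW hW' h a => normW_res hW hW' h a, fun W hW c => normW_const hW c,
    fun W hW a y hy h => normW_vanish (Finset.prod_pos fun x _ => hn x) hW a y hy h⟩⟩
  obtain ⟨p, hp, hxp⟩ := Set.mem_iUnion₂.1 (hS (hWP hxW))
  exact ⟨W ⊓ U p, ⟨hxW, hxp⟩, inf_le_left, inf_le_left.trans hWP, n p, _,
    frame_res (hs p) inf_le_right, hn p, Finset.dvd_prod_of_mem _ hp⟩

end Groth.Agent.NormAmpleX
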