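import Groth.Agent.NormAmpleX.Data
import Groth.Agent.NormAmpleX.LocFree
import Groth.Agent.H23.CocycleMod
import Groth.Agent.InvUfdLib.Semilocal

/-!
# The norm of an invertible module
-/

universe u

set_option backward.isDefEq.respectTransparency false
set_option backward.isDefEq.respectTransparency.types false
set_option linter.style.haveILetI false
set_option maxHeartbeats 800000

open CategoryTheory AlgebraicGeometry TopologicalSpace
open Groth.Agent.H23.PicMul

namespace Groth.Agent.NormAmpleX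

open Groth.Agent Groth.Agent.AmpleX Groth.Agent.H23

variable {X X' Y : Scheme.{u}}

/-- A multiplicative norm along `g`, on a basis of opens. -/
structure MulNorm (g : X' ⟶ X) where
  /-- the basis -/
  ok : X.Opens → Prop
  exists_ok : ∀ (x : X) (W : X.Opens), x ∈ W → ∃ W' : X.Opens, x ∈ W' ∧ W' ≤ W ∧ ok W'
  /-- the norm -/
  N : ∀ W, ok W → (Γ(X', g ⁻¹ᵁ W) →* Γ(X, W))
  res : ∀ (W W' : X.Opens) (hW : ok W) (hW' : ok W') (h : W' ≤ W) (a : Γ(X', g ⁻¹ᵁ W)),
    AModX.resR h (N W hW a) = N W' hW' (AModX.resR (g.preimage_mono h) a)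
  vanish : ∀ (W : X.Opens) (hW : ok W) (a : Γ(X', g ⁻¹ᵁ W)) (y : X), y ∈ W →
    (∀ z : X', g z = y → z ∉ X'.basicOpen a) → y ∉ X.basicOpen (N W hW a)

variable {g : X' ⟶ X}

/-- A norm below the whole space. -/
def NormData.toMulNorm (d : NormData g ⊤) : MulNorm g where
  ok := d.ok
  exists_ok x W h := d.exists_ok x W h le_top
  N := d.N
  res := d.res
  vanish := d.vanish

variable (d : MulNorm g)

theorem MulNorm.mem_basicOpen [UniversallyClosed g] {W : X.Opens} (hW : d.ok W) (a : Γ(X', g ⁻¹ᵁ W)) {y : X}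
    (hy : y ∈ W) (h : ∀ z : X', g z = y → z ∈ X'.basicOpen a) : y ∈ X.basicOpen (d.N W hW a) := by
  have hc : IsClosed (g '' (X'.basicOpen a : Set X')ᶜ) := g.isClosedMap _ (X'.basicOpen a).2.isClosed_compl
  let W₀ : X.Opens := W ⊓ ⟨(g '' (X'.basicOpen a : Set X')ᶜ)ᶜ, hc.isOpen_compl⟩
  have hy₀ : y ∈ W₀ := ⟨hy, fun ⟨z, hz, hzy⟩ => hz (h z hzy)⟩
  obtain ⟨W₁, hy₁, hle, hW₁⟩ := d.exists_ok y W₀ hy₀
  have hle' : W₁ ≤ W := hle.trans inf_le_left
  have hu : IsUnit (AModX.resR (g.preimage_mono hle') a) := by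
    refine X'.toRingedSpace.isUnit_of_isUnit_germ _ _ fun z hz => ?_
    rw [show X'.toRingedSpace.presheaf.germ (g ⁻¹ᵁ W₁) z hz (AModX.resR (g.preimage_mono hle') a) =
      X'.presheaf.germ (g ⁻¹ᵁ W) z (g.preimage_mono hle' hz) a from
        TopCat.Presheaf.germ_res_apply X'.presheaf (homOfLE (g.preimage_mono hle')) z hz a]
    refine (X'.mem_basicOpen a z (g.preimage_mono hle' hz)).1 ?_
    by_contra hza
    exact (hle hz).2 ⟨z, hza, rfl⟩
  have h1 : IsUnit (AModX.resR hle' (d.N W hW a)) := by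
    rw [d.res W W₁ hW hW₁ hle']
    exact hu.map _
  have h2 := X.basicOpen_of_isUnit h1
  rw [show AModX.resR hle' (d.N W hW a) = X.presheaf.map (homOfLE hle').op (d.N W hW a) from rfl,
    Scheme.basicOpen_res] at h2
  exact (h2.ge hy₁).2

theorem MulNorm.existsUnique_ext (W : X.Opens) (a : Γ(X', g ⁻¹ᵁ W)) :
    ∃! v : Γ(X, W), ∀ (W' : X.Opens) (hW' : d.ok W') (h : W' ≤ W),
      AModX.resR h v = d.N W' hW' (AModX.resR (g.preimage_mono h) a) := by
  let ι := {W' : X.Opens // d.ok W' ∧ W' ≤ W}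
  have hcov : ∀ p ∈ W, ∃ i : ι, p ∈ i.1 := fun p hp => by
    obtain ⟨W', hp', hle, hW'⟩ := d.exists_ok p W hp
    exact ⟨⟨W', hW', hle⟩, hp'⟩
  obtain ⟨v, hv, huniq⟩ := AModX.existsUnique_glue (M := Coh.structureModule X) (V := W) (fun i : ι => i.1)
    (fun i => i.2.2) hcov (fun i => d.N i.1 i.2.1 (AModX.resR (g.preimage_mono i.2.2) a)) (fun i j => by
      refine AModX.eq_of_locally (M := Coh.structureModule X) _ _ fun p hp => ?_
      obtain ⟨W', hp', hle, hW'⟩ := d.exists_ok p _ hp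
      refine ⟨W', hle, hp', ?_⟩
      show AModX.resR hle (AModX.resR _ _) = AModX.resR hle (AModX.resR _ _)
      rw [AModX.resR_resR, AModX.resR_resR, d.res _ W' i.2.1 hW', d.res _ W' j.2.1 hW',
        AModX.resR_resR, AModX.resR_resR])
  exact ⟨v, fun W' hW' h => hv ⟨W', hW', h⟩, fun w hw => huniq w fun i => hw i.1 i.2.1 i.2.2⟩

/-- The norm on all opens. -/
noncomputable def MulNorm.ext (W : X.Opens) : Γ(X', g ⁻¹ᵁ W) →* Γ(X, W) where
  toFun a := (d.existsUnique_ext W a).choose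
  map_one' := ((d.existsUnique_ext W 1).choose_spec.2 1 fun W' hW' h => by rw [map_one, map_one, map_one]).symm
  map_mul' a b := ((d.existsUnique_ext W (a * b)).choose_spec.2 _ fun W' hW' h => by
    rw [map_mul, (d.existsUnique_ext W a).choose_spec.1 W' hW' h,
      (d.existsUnique_ext W b).choose_spec.1 W' hW' h, map_mul, map_mul]).symm

theorem MulNorm.ext_res {W W' : X.Opens} (hW' : d.ok W') (h : W' ≤ W) (a : Γ(X', g ⁻¹ᵁ W)) :
    AModX.resR h (d.ext W a) = d.N W' hW' (AModX.resR (g.preimage_mono h) a) :=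
  (d.existsUnique_ext W a).choose_spec.1 W' hW' h

theorem exists_frame_preimage (π : X' ⟶ X) [IsFinite π] {L : X'.Modules} (hL : PicF.IsInvertible L) (y : X) :
    ∃ (V : X.Opens) (e : Γ(L, π ⁻¹ᵁ V)), y ∈ V ∧ InvX.IsFrame e := by
  obtain ⟨_, ⟨V₀, hV₀, rfl⟩, hyV₀, -⟩ :=
    X.isBasis_affineOpens.exists_subset_of_mem_open (Set.mem_univ y) isOpen_univ
  have hd : ∀ x ∈ π ⁻¹' {y}, ∀ x' ∈ π ⁻¹' {y}, x ⤳ x' → x = x' := by
    intro x hx x' hx' h
    have := (π.isDiscrete_preimage_singleton y).1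
    have h' : (⟨x, hx⟩ : π ⁻¹' {y}) ⤳ ⟨x', hx'⟩ := (subtype_specializes_iff _ _).2 h
    exact congrArg Subtype.val h'.eq
  obtain ⟨O, s, hFO, hs⟩ := InvUfdLib.exists_frame_finset hL (hV₀.preimage π) (π ⁻¹' {y})
    (π.finite_preimage_singleton y)
    (fun x (hx : π x = y) => show π x ∈ V₀ from hx ▸ hyV₀) hd
  let Z : Set X := π '' ((O : Set X')ᶜ)
  have hZ : IsClosed Z := π.isClosedMap _ O.isOpen.isClosed_compl
  let V : X.Opens := ⟨Zᶜ, hZ.isOpen_compl⟩
  have hy : y ∈ V := by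
    rintro ⟨x, hx, rfl⟩
    exact hx (hFO rfl)
  have hle : π ⁻¹ᵁ V ≤ O := fun x hx => not_not.1 fun h => hx ⟨x, h, rfl⟩
  exact ⟨V, _, hy, hs.res hle⟩

include d in
/-- The norm of an invertible module, with norms of sections of its powers. -/
theorem MulNorm.exists_norm_module [IsFinite g] {L' : X'.Modules} (hL' : PicF.IsInvertible L') :
    ∃ N : X.Modules, PicF.IsInvertible N ∧
      ∀ (m : ℕ) (P : X.Opens) (s : Γ(CohB1.tensorPow L' m, g ⁻¹ᵁ P)), ∃ t : Γ(CohB1.tensorPow N m, P),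
        (∀ y ∈ P, (∀ z : X', g z = y → z ∈ locus s) → y ∈ locus t) ∧
          ∀ y ∈ locus t, ∃ z : X', g z = y ∧ z ∈ locus s := by
  choose U e hxU he using fun x : X => exists_frame_preimage g hL' x
  have hu : ∀ x y : X, ∃ w : (Γ(X', g ⁻¹ᵁ (U x ⊓ U y)))ˣ,
      AModX.res L' (g.preimage_mono (inf_le_left : U x ⊓ U y ≤ U x)) (e x) =
        (w : Γ(X', g ⁻¹ᵁ (U x ⊓ U y))) • AModX.res L' (g.preimage_mono (inf_le_right : U x ⊓ U y ≤ U y)) (e y) := by
    intro x y
    have hx := (he x).res (g.preimage_mono (inf_le_left : U x ⊓ U y ≤ U x))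
    have hy := (he y).res (g.preimage_mono (inf_le_right : U x ⊓ U y ≤ U y))
    obtain ⟨c, hc⟩ := hy.exists_coord le_rfl (AModX.res L' (g.preimage_mono inf_le_left) (e x))
    obtain ⟨c', hc'⟩ := hx.exists_coord le_rfl (AModX.res L' (g.preimage_mono inf_le_right) (e y))
    rw [AModX.res_self] at hc hc'
    have h1 : c * c' = 1 := hx.coord_unique le_rfl (by rw [AModX.res_self, mul_smul, ← hc', one_smul, ← hc])
    exact ⟨⟨c, c', h1, (mul_comm c' c).trans h1⟩, hc⟩
  choose w hw using hu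
  have hU : iSup U = ⊤ := eq_top_iff.2 fun x _ => Opens.mem_iSup.2 ⟨x, hxU x⟩
  have hext : ∀ {W W' : X.Opens} (h : W' ≤ W) (a : Γ(X', g ⁻¹ᵁ W)),
      AModX.resR h (d.ext W a) = d.ext W' (AModX.resR (g.preimage_mono h) a) := fun {W W'} h a =>
    (d.existsUnique_ext W' _).choose_spec.2 _ fun W'' hW'' h'' => by
      rw [AModX.resR_resR, AModX.resR_resR, d.ext_res hW'']
  let c : CocycleMod.Cocycle U :=
    { g := fun x y => Units.map (d.ext (U x ⊓ U y)) (w x y)
      trans := fun i j k W hi hj hk => by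
        show AModX.resR (le_inf hi hk) (d.ext _ (w i k : Γ(X', g ⁻¹ᵁ (U i ⊓ U k)))) =
          AModX.resR (le_inf hj hk) (d.ext _ (w j k : Γ(X', g ⁻¹ᵁ (U j ⊓ U k)))) *
            AModX.resR (le_inf hi hj) (d.ext _ (w i j : Γ(X', g ⁻¹ᵁ (U i ⊓ U j))))
        rw [hext, hext, hext, ← map_mul]
        refine congrArg _ (((he k).res (g.preimage_mono hk)).coord_unique le_rfl ?_)
        have h1 := congrArg (AModX.res L' (g.preimage_mono (le_inf hi hk))) (hw i k)
        have h2 := congrArg (AModX.res L' (g.preimage_mono (le_inf hj hk))) (hw j k)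
        have h3 := congrArg (AModX.res L' (g.preimage_mono (le_inf hi hj))) (hw i j)
        rw [AModX.res_smul, AModX.res_res, AModX.res_res] at h1 h2 h3
        rw [AModX.res_self, ← h1, h3, h2, ← mul_smul, mul_comm] }
  refine ⟨CocycleMod.mod c, CocycleMod.isInvertible c hU, fun m P s => ?_⟩
  let ι := {p : X × X.Opens // d.ok p.2 ∧ p.2 ≤ U p.1 ∧ p.2 ≤ P}
  have hcov : ∀ p ∈ P, ∃ i : ι, p ∈ i.1.2 := fun p hp => by
    obtain ⟨W, hpW, hle, hW⟩ := d.exists_ok p (U p ⊓ P) ⟨hxU p, hp⟩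
    exact ⟨⟨(p, W), hW, hle.trans inf_le_left, hle.trans inf_le_right⟩, hpW⟩
  have he' : ∀ i : ι, InvX.IsFrame (powElt (AModX.res L' (g.preimage_mono i.2.2.1) (e i.1.1)) m) := fun i =>
    isFrame_powElt ((he i.1.1).res _) m
  choose a ha using fun i : ι => (he' i).exists_coord le_rfl
    (AModX.res _ (g.preimage_mono i.2.2.2) s)
  simp only [AModX.res_self] at ha
  let f : ∀ i : ι, Γ(CocycleMod.mod c, i.1.2) := fun i =>
    AModX.res (CocycleMod.mod c) i.2.2.1 (CocycleMod.frame c i.1.1)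
  have hf : ∀ i : ι, InvX.IsFrame (f i) := fun i => (CocycleMod.isFrame_frame c i.1.1).res _
  let tf : ∀ i : ι, Γ(CohB1.tensorPow (CocycleMod.mod c) m, i.1.2) := fun i =>
    d.N i.1.2 i.2.1 (a i) • powElt (f i) m
  obtain ⟨t, ht, -⟩ := AModX.existsUnique_glue (M := CohB1.tensorPow (CocycleMod.mod c) m) (V := P)
    (fun i : ι => i.1.2) (fun i => i.2.2.2) hcov tf (fun i j => by
      refine AModX.eq_of_locally _ _ fun p hp => ?_
      obtain ⟨W, hpW, hle, hW⟩ := d.exists_ok p _ hp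
      refine ⟨W, hle, hpW, ?_⟩
      have hi : W ≤ i.1.2 := hle.trans inf_le_left
      have hj : W ≤ j.1.2 := hle.trans inf_le_right
      have hij : W ≤ U i.1.1 ⊓ U j.1.1 := le_inf (hi.trans i.2.2.1) (hj.trans j.2.2.1)
      let q := AModX.resR (g.preimage_mono hij) (w i.1.1 j.1.1 : Γ(X', g ⁻¹ᵁ (U i.1.1 ⊓ U j.1.1)))
      have h1 : AModX.res L' (g.preimage_mono (hi.trans i.2.2.1)) (e i.1.1) =
          q • AModX.res L' (g.preimage_mono (hj.trans j.2.2.1)) (e j.1.1) := by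
        have := congrArg (AModX.res L' (g.preimage_mono hij)) (hw i.1.1 j.1.1)
        rwa [AModX.res_smul, AModX.res_res, AModX.res_res] at this
      have h2 : AModX.res (CocycleMod.mod c) hi (f i) = d.N W hW q • AModX.res (CocycleMod.mod c) hj (f j) := by
        have := congrArg (AModX.res (CocycleMod.mod c) hij) (CocycleMod.res_frame c i.1.1 j.1.1)
        rw [AModX.res_smul, AModX.res_res, AModX.res_res] at this
        rw [AModX.res_res, AModX.res_res, ← d.ext_res hW hij]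
        exact this
      have h3 : AModX.resR (g.preimage_mono hj) (a j) = AModX.resR (g.preimage_mono hi) (a i) * q ^ m := by
        refine (isFrame_powElt ((he j.1.1).res (g.preimage_mono (hj.trans j.2.2.1))) m).coord_unique le_rfl ?_
        rw [AModX.res_self, mul_smul, ← powElt_smul, ← h1]
        have hA := congrArg (AModX.res (CohB1.tensorPow L' m) (g.preimage_mono hi)) (ha i)
        have hB := congrArg (AModX.res (CohB1.tensorPow L' m) (g.preimage_mono hj)) (ha j)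
        rw [AModX.res_res, AModX.res_smul, res_powElt, AModX.res_res] at hA hB
        exact hB.symm.trans hA
      show AModX.res _ hle (AModX.res _ _ (tf i)) = AModX.res _ hle (AModX.res _ _ (tf j))
      rw [AModX.res_res, AModX.res_res, AModX.res_smul, AModX.res_smul, res_powElt, res_powElt, h2, powElt_smul,
        ← mul_smul, d.res _ W i.2.1 hW, d.res _ W j.2.1 hW, h3, map_mul, map_pow])
  have hloc : ∀ i : ι, locus t ⊓ i.1.2 = X.basicOpen (d.N i.1.2 i.2.1 (a i)) := fun i =>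
    locus_inf _ _ (isFrame_powElt (hf i) m) (ht i)
  have hls : ∀ i : ι, locus s ⊓ g ⁻¹ᵁ i.1.2 = X'.basicOpen (a i) := fun i => locus_inf _ _ (he' i) (ha i)
  refine ⟨t, fun y hy h => ?_, fun y hy => ?_⟩
  · obtain ⟨i, hi⟩ := hcov y hy
    have h1 : y ∈ X.basicOpen (d.N i.1.2 i.2.1 (a i)) := d.mem_basicOpen i.2.1 (a i) hi fun z hz => by
      rw [← hls i]
      exact ⟨h z hz, show g z ∈ i.1.2 from hz ▸ hi⟩
    rw [← hloc i] at h1
    exact h1.1
  · obtain ⟨i, hi⟩ := hcov y (locus_le t hy)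
    by_contra! hn
    refine d.vanish i.1.2 i.2.1 (a i) y hi (fun z hz hza => ?_) ((hloc i).le ⟨hy, hi⟩)
    rw [← hls i] at hza
    exact hn z hz hza.1

include d in
/-- An ample module upstairs gives one downstairs, given a norm. -/
theorem exists_isRelAmple_of_mulNorm (f : X ⟶ Y) [QuasiCompact f] [IsFinite g] {L' : X'.Modules}
    (h : RelAmple.IsRelAmple (g ≫ f) L') :
    ∃ N : X.Modules, PicF.IsInvertible N ∧ RelAmple.IsRelAmple f N := by
  have hL' := isInvertible_of_isRelAmple h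
  obtain ⟨N, hN, hsec⟩ := d.exists_norm_module hL'
  refine ⟨N, hN, isRelAmple_of_sections hN fun x => ?_⟩
  obtain ⟨V, hV, hxV, -⟩ := exists_isAffineOpen_mem_and_subset (x := f x) (U := ⊤) trivial
  refine ⟨V, hxV, f.isCompact_preimage hV.isCompact, fun x' hx' => ?_⟩
  obtain ⟨U, hU, hxU, hUP⟩ := exists_isAffineOpen_mem_and_subset (x := x') (U := f ⁻¹ᵁ V) hx'
  let P' : X'.Opens := g ⁻¹ᵁ (f ⁻¹ᵁ V)
  let j := P'.ι
  have hA : CohB1.IsAmple (L'.restrict j) := h.2 ⟨V, hV⟩
  haveI : P'.toScheme.IsSeparated := isSeparated_of_isAmple hA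
  have hfin : (g ⁻¹' {x'}).Finite := g.finite_preimage_singleton x'
  obtain ⟨n, s, hZs, hsU, -⟩ := exists_finite_nhd hA (Z := j ⁻¹' (g ⁻¹' {x'}))
    (hfin.preimage j.isOpenEmbedding.injective.injOn) (U := j ⁻¹ᵁ g ⁻¹ᵁ U) fun z hz => by
      show g (j z) ∈ U
      rw [Set.mem_singleton_iff.1 hz]; exact hxU
  obtain ⟨e⟩ := cl_eq_iff.1 (show PicF.cl (CohB1.tensorPow (L'.restrict j) (n + 1)) =
      PicF.cl ((CohB1.tensorPow L' (n + 1)).restrict j) by
    rw [cl_tensorPow, cl_restrict, cl_restrict, cl_tensorPow, pullCl_pow])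
  let s₀ := e.hom.app ⊤ (InvX.one s)
  let s₁ : Γ(CohB1.tensorPow L' (n + 1), g ⁻¹ᵁ (f ⁻¹ᵁ V)) := AModX.res _ P'.ι_image_top.ge s₀
  have hs₁ : locus s₁ = j ''ᵁ CohB1.genLocus _ s := by
    rw [locus_res, genLocus_eq_locus, ← locus_iso e (InvX.one s),
      image_locus (M := CohB1.tensorPow L' (n + 1)) j s₀]
    exact inf_eq_left.2 (le_trans (locus_le (M := CohB1.tensorPow L' (n + 1))
      (U := j ''ᵁ ⊤) s₀) P'.ι_image_top.le)
  obtain ⟨t, ht1, ht2⟩ := hsec (n + 1) (f ⁻¹ᵁ V) s₁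
  refine ⟨n + 1, n.succ_pos, t, ?_, ?_⟩
  · refine ht1 x' hx' fun z hz => ?_
    rw [hs₁]
    have hzP : z ∈ P' := show g z ∈ f ⁻¹ᵁ V from hz ▸ hx'
    exact ⟨⟨z, hzP⟩, hZs (show g (j ⟨z, hzP⟩) ∈ ({x'} : Set X) from hz), rfl⟩
  · have hle : locus t ≤ U := fun y hy => by
      obtain ⟨z, hz, hzs⟩ := ht2 y hy
      rw [hs₁] at hzs
      obtain ⟨v, hv, rfl⟩ := hzs
      exact hz ▸ hsU hv
    rw [← inf_eq_right.2 hle]
    exact isAffineOpen_inf_locus (InvX.isInvertible_tensorPow hN _) hU t hUP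

/-- The norm of a finite locally free surjective morphism, without exponents. -/
theorem nonempty_mulNorm_of_locFree [Surjective g] (hfree : FlatMod.IsFinLocFree (pushO g)) :
    Nonempty (MulNorm g) := by
  classical
  refine ⟨{ ok := fun W => ∃ (n : ℕ) (s : Fin n → Γ(pushO g, W)), Frame.IsFrame (pushO g) s
            exists_ok := fun x W hxW => ?_
            N := fun W _ => letI := alg g W; Algebra.norm Γ(X, W)
            res := fun W W' hW hW' h a => ?_
            vanish := fun W hW a y hy hv hyN => ?_ }⟩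
  · obtain ⟨U, n, hxU, ⟨e⟩⟩ := hfree x
    obtain ⟨s, hs⟩ := Frame.exists_frame e
    exact ⟨W ⊓ U, ⟨hxW, hxU⟩, inf_le_left, n, _, frame_res hs inf_le_right⟩
  · obtain ⟨n, s, hs⟩ := hW
    letI := alg g W
    letI := alg g W'
    refine (norm_map (AModX.resR h) (AModX.resR (g.preimage_mono h)) (fun r => ?_)
      (basisOf g hs W le_rfl) (basisOf g hs W' h) (fun i => ?_) a).symm
    · show X'.presheaf.map _ ((g.app W).hom r) = (g.app W').hom (X.presheaf.map _ r)
      exact (congr($(g.naturality (homOfLE h).op).hom r)).symm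
    · rw [basisOf_apply, basisOf_apply]
      show _ = X'.presheaf.map _ (X'.presheaf.map _ _)
      rw [← ConcreteCategory.comp_apply, ← X'.presheaf.map_comp]
      rfl
  · obtain ⟨n, s, hs⟩ := hW
    letI := alg g W
    let W₁ := X.basicOpen (Algebra.norm Γ(X, W) a)
    have hle : W₁ ≤ W := X.basicOpen_le _
    letI := alg g W₁
    have h1 : IsUnit (AModX.resR hle (Algebra.norm Γ(X, W) a)) :=
      RingedSpace.isUnit_res_basicOpen X.toRingedSpace _
    rw [← norm_map (AModX.resR hle) (AModX.resR (g.preimage_mono hle)) (fun r => by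
        show X'.presheaf.map _ ((g.app W).hom r) = (g.app W₁).hom (X.presheaf.map _ r)
        exact (congr($(g.naturality (homOfLE hle).op).hom r)).symm)
        (basisOf g hs W le_rfl) (basisOf g hs W₁ hle) (fun i => by
        rw [basisOf_apply, basisOf_apply]
        show _ = X'.presheaf.map _ (X'.presheaf.map _ _)
        rw [← ConcreteCategory.comp_apply, ← X'.presheaf.map_comp]
        rfl) a] at h1
    obtain ⟨z, hz⟩ := g.surjective y
    have h2 := (isUnit_of_isUnit_norm (basisOf g hs W₁ hle) h1).map (X'.presheaf.germ (g ⁻¹ᵁ W₁) z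
      (show g z ∈ W₁ from hz ▸ hyN)).hom
    refine hv z hz ((X'.mem_basicOpen a z (show g z ∈ W from hz ▸ hy)).2 ?_)
    rwa [show (X'.presheaf.germ (g ⁻¹ᵁ W₁) z _).hom (AModX.resR (g.preimage_mono hle) a) =
      X'.presheaf.germ (g ⁻¹ᵁ W) z (show g z ∈ W from hz ▸ hy) a from
        TopCat.Presheaf.germ_res_apply X'.presheaf (homOfLE (g.preimage_mono hle)) z _ a] at h2

end Groth.Agent.NormAmpleX
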