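import Groth.Agent.AModX.Res
import Mathlib.AlgebraicGeometry.Morphisms.Finite
import Mathlib.AlgebraicGeometry.ResidueField
import Mathlib.Topology.Sober

/-!
# Generic points of a reduced scheme, and the algebras of a morphism at them
-/

universe u

set_option backward.isDefEq.respectTransparency false
set_option backward.isDefEq.respectTransparency.types false
set_option linter.style.haveILetI false
set_option maxHeartbeats 800000

open CategoryTheory AlgebraicGeometry TopologicalSpace Opposite

namespace Groth.Agent.NormAmpleX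

open Groth.Agent

variable {X X' : Scheme.{u}}

theorem eq_of_specializes_generic {η z : X} (hη : η ∈ genericPoints (X : Type u)) (h : z ⤳ η) : z = η := by
  have h1 : closure ({η} : Set X) ⊆ closure {z} :=
    closure_minimal (Set.singleton_subset_iff.2 (specializes_iff_mem_closure.1 h)) isClosed_closure
  have h2 : closure ({z} : Set X) ⊆ closure {η} := hη.2 (isIrreducible_singleton.closure) h1
  exact (specializes_iff_mem_closure.2 (h1 (subset_closure rfl))).antisymm
    (specializes_iff_mem_closure.2 (h2 (subset_closure rfl))) |>.eq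

theorem exists_generic_specializes (y : X) : ∃ η ∈ genericPoints (X : Type u), η ⤳ y := by
  let c : irreducibleComponents (X : Type u) :=
    ⟨irreducibleComponent y, irreducibleComponent_mem_irreducibleComponents y⟩
  refine ⟨_, (genericPoints.ofComponent c).2, specializes_iff_mem_closure.2 ?_⟩
  rw [(genericPoints.isGenericPoint_ofComponent c).def]
  exact mem_irreducibleComponent

theorem isField_stalk_of_generic [IsReduced X] {η : X} (hη : η ∈ genericPoints (X : Type u)) :
    IsField (X.presheaf.stalk η) := by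
  have hmax : ∀ P : Ideal (X.presheaf.stalk η), P.IsPrime → P.IsMaximal := fun P hP => by
    have h1 : X.fromSpecStalk η ⟨P, hP⟩ ∈ Set.range (X.fromSpecStalk η) := Set.mem_range_self _
    rw [Scheme.range_fromSpecStalk] at h1
    have h2 : (⟨P, hP⟩ : PrimeSpectrum (X.presheaf.stalk η)) = IsLocalRing.closedPoint (X.presheaf.stalk η) :=
      (X.fromSpecStalk η).isEmbedding.injective
        ((eq_of_specializes_generic hη h1).trans Scheme.fromSpecStalk_closedPoint.symm)
    rw [congrArg PrimeSpectrum.asIdeal h2 |> (show P = _ from ·)]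
    exact IsLocalRing.maximalIdeal.isMaximal _
  haveI : Ring.KrullDimLE 0 (X.presheaf.stalk η) := Ring.KrullDimLE.mk₀ hmax
  exact Ring.KrullDimLE.isField_of_isReduced

theorem eq_zero_of_germ_generic [IsReduced X] {W : X.Opens} (f : Γ(X, W))
    (h : ∀ η ∈ genericPoints (X : Type u), ∀ hη : η ∈ W, X.presheaf.germ W η hη f = 0) : f = 0 := by
  refine (basicOpen_eq_bot_iff f).1 (eq_bot_iff.2 fun y hy => ?_)
  obtain ⟨η, hη, hηy⟩ := exists_generic_specializes y
  have hηf : η ∈ X.basicOpen f := hηy.mem_open (X.basicOpen f).2 hy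
  have hηW : η ∈ W := X.basicOpen_le f hηf
  have h1 := (X.mem_basicOpen f η hηW).1 hηf
  rw [h η hη hηW] at h1
  exact absurd h1 not_isUnit_zero

variable (g : X' ⟶ X) (x : X)

/-- The algebra of `g` at a point: the stalk of the direct image of the structure sheaf. -/
noncomputable abbrev fib : CommRingCat.{u} := (g.base _* X'.presheaf).stalk x

/-- The structure map of the algebra of `g` at a point. -/
noncomputable def fibStr : X.presheaf.stalk x ⟶ fib g x := (TopCat.Presheaf.stalkFunctor CommRingCat x).map g.c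

noncomputable instance fibAlgebra : Algebra (X.presheaf.stalk x) (fib g x) := (fibStr g x).hom.toAlgebra

/-- The germ of a function on the source. -/
noncomputable def germF (W : X.Opens) (h : x ∈ W) : Γ(X', g ⁻¹ᵁ W) →+* fib g x :=
  (TopCat.Presheaf.germ (g.base _* X'.presheaf) W x h).hom

theorem germF_app (W : X.Opens) (h : x ∈ W) (c : Γ(X, W)) :
    germF g x W h (g.app W c) = algebraMap (X.presheaf.stalk x) (fib g x) (X.presheaf.germ W x h c) :=
  (TopCat.Presheaf.stalkFunctor_map_germ_apply (F := X.presheaf) (G := g.base _* X'.presheaf) W x h g.c c).symm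

theorem germF_res {W W' : X.Opens} (hle : W' ≤ W) (h : x ∈ W') (a : Γ(X', g ⁻¹ᵁ W)) :
    germF g x W' h (AModX.resR (g.preimage_mono hle) a) = germF g x W (hle h) a :=
  TopCat.Presheaf.germ_res_apply (g.base _* X'.presheaf) (homOfLE hle) x h a

theorem germ_resR {W W' : X.Opens} (hle : W' ≤ W) (h : x ∈ W') (a : Γ(X, W)) :
    X.presheaf.germ W' x h (AModX.resR hle a) = X.presheaf.germ W x (hle h) a :=
  TopCat.Presheaf.germ_res_apply X.presheaf (homOfLE hle) x h a

theorem exists_germF (s : fib g x) : ∃ (W : X.Opens) (h : x ∈ W) (a : Γ(X', g ⁻¹ᵁ W)), germF g x W h a = s :=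
  TopCat.Presheaf.exists_germ_eq (g.base _* X'.presheaf) s

theorem nontrivial_fib [Surjective g] : Nontrivial (fib g x) := by
  obtain ⟨z, rfl⟩ := g.surjective x
  exact (TopCat.Presheaf.stalkPushforward CommRingCat g.base X'.presheaf z).hom.domain_nontrivial

/-- The algebra of a finite morphism at a point is finite. -/
theorem finite_fib [IsFinite g] : Module.Finite (X.presheaf.stalk x) (fib g x) := by
  classical
  obtain ⟨_, ⟨W, hW, rfl⟩, hxW, -⟩ :=
    X.isBasis_affineOpens.exists_subset_of_mem_open (show x ∈ (⊤ : X.Opens) from trivial) (⊤ : X.Opens).2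
  letI := (g.app W).hom.toAlgebra
  haveI : Module.Finite Γ(X, W) Γ(X', g ⁻¹ᵁ W) := g.finite_app W hW
  obtain ⟨T, hT⟩ := Module.Finite.fg_top (R := Γ(X, W)) (M := Γ(X', g ⁻¹ᵁ W))
  let N := Submodule.span (X.presheaf.stalk x) (germF g x W hxW '' (T : Set Γ(X', g ⁻¹ᵁ W)))
  have hB : ∀ b, germF g x W hxW b ∈ N := fun b => by
    have hb : b ∈ Submodule.span Γ(X, W) (T : Set Γ(X', g ⁻¹ᵁ W)) := hT.symm ▸ Submodule.mem_top
    induction hb using Submodule.span_induction with
    | mem y hy => exact Submodule.subset_span ⟨y, hy, rfl⟩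
    | zero => rw [map_zero]; exact N.zero_mem
    | add y z _ _ hy hz => rw [map_add]; exact N.add_mem hy hz
    | smul c y _ hy =>
      rw [show c • y = g.app W c * y from rfl, map_mul, germF_app, ← Algebra.smul_def]
      exact N.smul_mem _ hy
  refine ⟨⟨T.image (germF g x W hxW), top_le_iff.1 fun s _ => ?_⟩⟩
  rw [Finset.coe_image]
  obtain ⟨V, hxV, a, rfl⟩ := exists_germF g x s
  obtain ⟨f, hf, hxf⟩ := hW.exists_basicOpen_le (V := V) ⟨x, hxV⟩ hxW
  have hle : X.basicOpen f ≤ W := X.basicOpen_le f
  rw [← germF_res g x hf hxf a]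
  generalize AModX.resR (g.preimage_mono hf) a = a₁
  haveI := (hW.preimage g).isLocalization_basicOpen (g.app W f)
  obtain ⟨⟨b, ⟨_, n, rfl⟩⟩, hb⟩ := IsLocalization.surj (Submonoid.powers (g.app W f))
    (AModX.resR (g.preimage_basicOpen f).ge a₁)
  have hbe : X'.presheaf.map (homOfLE ((g.preimage_basicOpen f).le.trans (X'.basicOpen_le _))).op b =
      a₁ * g.app (X.basicOpen f) (AModX.resR hle f) ^ n := by
    have h1 := congrArg (AModX.resR (g.preimage_basicOpen f).le) hb
    change AModX.resR (g.preimage_basicOpen f).le (AModX.resR (g.preimage_basicOpen f).ge a₁ *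
        AModX.resR (X'.basicOpen_le (g.app W f)) (g.app W f ^ n)) =
      AModX.resR (g.preimage_basicOpen f).le (AModX.resR (X'.basicOpen_le (g.app W f)) b) at h1
    rw [map_mul, map_pow, map_pow, AModX.resR_resR, AModX.resR_resR, AModX.resR_resR, AModX.resR_self] at h1
    refine h1.symm.trans (congrArg (fun z => a₁ * z ^ n) ?_)
    exact (congr($(g.naturality (homOfLE hle).op).hom f)).symm
  have h2 : germF g x W hxW b = germF g x (X.basicOpen f) hxf a₁ *
      algebraMap (X.presheaf.stalk x) (fib g x) (X.presheaf.germ W x hxW f) ^ n := by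
    rw [← germ_resR x hle hxf f, ← germF_app, ← map_pow, ← map_mul, ← hbe]
    exact (germF_res g x hle hxf b).symm
  obtain ⟨v, hv⟩ := ((X.mem_basicOpen f x hxW).1 hxf).exists_right_inv
  rw [show germF g x (X.basicOpen f) hxf a₁ = v ^ n • germF g x W hxW b by
    rw [h2, Algebra.smul_def, mul_comm (germF g x (X.basicOpen f) hxf a₁), ← mul_assoc, map_pow, ← mul_pow,
      ← map_mul, mul_comm v, hv, map_one, one_pow, one_mul]]
  exact Submodule.smul_mem _ _ (hB b)

end Groth.Agent.NormAmpleX
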