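import Groth.Agent.AmpleX.Comp
import Groth.Agent.AmpleX.FiniteSet
import Groth.Agent.AmpleX.RelAffine
import Groth.Agent.AModX.Res

/-!
# Norms of sections and ampleness through a finite surjective morphism
-/

universe u

set_option backward.isDefEq.respectTransparency false
set_option backward.isDefEq.respectTransparency.types false
set_option linter.style.haveILetI false
set_option maxHeartbeats 800000

open CategoryTheory AlgebraicGeometry TopologicalSpace
open Groth.Agent.H23.PicMul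

namespace Groth.Agent.NormAmpleX

open Groth.Agent Groth.Agent.AmpleX

variable {X X' Y : Scheme.{u}}

/-- A multiplicative norm along `g`, on a basis of opens below `P`. -/
structure NormData (g : X' ⟶ X) (P : X.Opens) where
  /-- the exponent -/
  D : ℕ
  D_pos : 0 < D
  /-- the basis -/
  ok : X.Opens → Prop
  exists_ok : ∀ (x : X) (W : X.Opens), x ∈ W → W ≤ P → ∃ W' : X.Opens, x ∈ W' ∧ W' ≤ W ∧ ok W'
  /-- the norm -/
  N : ∀ W, ok W → (Γ(X', g ⁻¹ᵁ W) →* Γ(X, W))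
  res : ∀ (W W' : X.Opens) (hW : ok W) (hW' : ok W') (h : W' ≤ W) (a : Γ(X', g ⁻¹ᵁ W)),
    AModX.resR h (N W hW a) = N W' hW' (AModX.resR (g.preimage_mono h) a)
  const : ∀ (W : X.Opens) (hW : ok W) (c : Γ(X, W)), N W hW (g.app W c) = c ^ D
  vanish : ∀ (W : X.Opens) (hW : ok W) (a : Γ(X', g ⁻¹ᵁ W)) (y : X), y ∈ W →
    (∀ z : X', g z = y → z ∉ X'.basicOpen a) → y ∉ X.basicOpen (N W hW a)

variable {g : X' ⟶ X} {P : X.Opens}

/-- The norm is invertible where the function is invertible on the whole fibre. -/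
theorem NormData.mem_basicOpen [UniversallyClosed g] (d : NormData g P) {W : X.Opens} (hW : d.ok W) (hWP : W ≤ P)
    (a : Γ(X', g ⁻¹ᵁ W)) {y : X} (hy : y ∈ W) (h : ∀ z : X', g z = y → z ∈ X'.basicOpen a) :
    y ∈ X.basicOpen (d.N W hW a) := by
  have hc : IsClosed (g '' (X'.basicOpen a : Set X')ᶜ) :=
    g.isClosedMap _ (X'.basicOpen a).2.isClosed_compl
  let W₀ : X.Opens := W ⊓ ⟨(g '' (X'.basicOpen a : Set X')ᶜ)ᶜ, hc.isOpen_compl⟩
  have hy₀ : y ∈ W₀ := ⟨hy, fun ⟨z, hz, hzy⟩ => hz (h z hzy)⟩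
  obtain ⟨W₁, hy₁, hle, hW₁⟩ := d.exists_ok y W₀ hy₀ (inf_le_left.trans hWP)
  have hle' : W₁ ≤ W := hle.trans inf_le_left
  have hu : IsUnit (AModX.resR (g.preimage_mono hle') a) := by
    refine X'.toRingedSpace.isUnit_of_isUnit_germ _ _ fun z hz => ?_
    rw [show X'.toRingedSpace.presheaf.germ (g ⁻¹ᵁ W₁) z hz (AModX.resR (g.preimage_mono hle') a) =
      X'.presheaf.germ (g ⁻¹ᵁ W) z (g.preimage_mono hle' hz) a from
        TopCat.Presheaf.germ_res_apply X'.presheaf (homOfLE (g.preimage_mono hle')) z hz a]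
    refine (X'.mem_basicOpen a z (g.preimage_mono hle' hz)).1 ?_
    by_contra hza
    exact (hle hz).2 ⟨z, hza, rfl⟩
  have h1 : IsUnit (AModX.resR hle' (d.N W hW a)) := by
    rw [d.res W W₁ hW hW₁ hle']
    exact hu.map _
  have h2 := X.basicOpen_of_isUnit h1
  rw [show AModX.resR hle' (d.N W hW a) = X.presheaf.map (homOfLE hle').op (d.N W hW a) from rfl,
    Scheme.basicOpen_res] at h2
  exact (h2.ge hy₁).2

/-- The norm of a section. -/
theorem NormData.exists_norm_section [UniversallyClosed g] (d : NormData g P) {M : X.Modules}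
    (hM : PicF.IsInvertible M) (s : Γ((Scheme.Modules.pullback g).obj M, g ⁻¹ᵁ P)) :
    ∃ t : Γ(CohB1.tensorPow M d.D, P),
      (∀ y ∈ P, (∀ z : X', g z = y → z ∈ locus s) → y ∈ locus t) ∧
        ∀ y ∈ locus t, ∃ z : X', g z = y ∧ z ∈ locus s := by
  let ι := {W : X.Opens // d.ok W ∧ W ≤ P ∧ ∃ e : Γ(M, W), InvX.IsFrame e}
  have hcov : ∀ p ∈ P, ∃ i : ι, p ∈ i.1 := fun p hp => by
    obtain ⟨U, hpU, e, he⟩ := InvX.exists_frame hM p
    obtain ⟨W, hpW, hle, hW⟩ := d.exists_ok p (U ⊓ P) ⟨hpU, hp⟩ inf_le_right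
    exact ⟨⟨W, hW, hle.trans inf_le_right, _, he.res (hle.trans inf_le_left)⟩, hpW⟩
  choose e he using fun i : ι => i.2.2.2
  choose a ha using fun i : ι => (InvX.isFrame_pullElt g (he i)).exists_coord le_rfl
    (AModX.res _ (g.preimage_mono i.2.2.1) s)
  simp only [AModX.res_self] at ha
  let tf : ∀ i : ι, Γ(CohB1.tensorPow M d.D, i.1) := fun i => d.N i.1 i.2.1 (a i) • powElt (e i) d.D
  have hres : ∀ (i : ι) (W : X.Opens) (hW : d.ok W) (h : W ≤ i.1),
      AModX.res _ h (tf i) = d.N W hW (AModX.resR (g.preimage_mono h) (a i)) • powElt (AModX.res M h (e i)) d.D := by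
    intro i W hW h
    rw [AModX.res_smul, res_powElt, d.res i.1 W i.2.1 hW h]
  obtain ⟨t, ht, -⟩ := AModX.existsUnique_glue (M := CohB1.tensorPow M d.D) (V := P) (fun i : ι => i.1)
    (fun i => i.2.2.1) hcov tf (fun i j => by
      refine AModX.eq_of_locally _ _ fun p hp => ?_
      obtain ⟨W, hpW, hle, hW⟩ := d.exists_ok p _ hp (inf_le_left.trans i.2.2.1)
      refine ⟨W, hle, hpW, ?_⟩
      rw [AModX.res_res, AModX.res_res, hres i W hW, hres j W hW]
      have hi : W ≤ i.1 := hle.trans inf_le_left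
      have hj : W ≤ j.1 := hle.trans inf_le_right
      obtain ⟨c, hc⟩ := ((he i).res hi).exists_coord le_rfl (AModX.res M hj (e j))
      rw [AModX.res_self] at hc
      have h1 : AModX.resR (g.preimage_mono hi) (a i) = AModX.resR (g.preimage_mono hj) (a j) * g.app W c := by
        refine (InvX.isFrame_pullElt g ((he i).res hi)).coord_unique le_rfl ?_
        rw [AModX.res_self, mul_smul, ← InvX.pullElt_smul, ← hc, ← InvX.res_pullElt g hi,
          ← InvX.res_pullElt g hj, ← AModX.res_smul, ← AModX.res_smul, ← ha, ← ha, AModX.res_res, AModX.res_res]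
      rw [h1, map_mul, d.const, mul_smul, ← powElt_smul, ← hc])
  have hloc : ∀ i : ι, locus t ⊓ i.1 = X.basicOpen (d.N i.1 i.2.1 (a i)) := fun i =>
    locus_inf _ _ (isFrame_powElt (he i) d.D) (ht i)
  have hls : ∀ i : ι, locus s ⊓ g ⁻¹ᵁ i.1 = X'.basicOpen (a i) := fun i =>
    locus_inf _ _ (InvX.isFrame_pullElt g (he i)) (ha i)
  refine ⟨t, fun y hy h => ?_, fun y hy => ?_⟩
  · obtain ⟨i, hi⟩ := hcov y hy
    have h1 : y ∈ X.basicOpen (d.N i.1 i.2.1 (a i)) := d.mem_basicOpen i.2.1 i.2.2.1 (a i) hi fun z hz => by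
      rw [← hls i]
      exact ⟨h z hz, show g z ∈ i.1 from hz ▸ hi⟩
    rw [← hloc i] at h1
    exact h1.1
  · obtain ⟨i, hi⟩ := hcov y (locus_le t hy)
    by_contra! hn
    refine d.vanish i.1 i.2.1 (a i) y hi (fun z hz hza => ?_) ((hloc i).le ⟨hy, hi⟩)
    rw [← hls i] at hza
    exact hn z hz hza.1

/-- Ampleness descends along a finite surjective morphism with norms. -/
theorem isRelAmple_of_normData (f : X ⟶ Y) [QuasiCompact f] (g : X' ⟶ X) [IsFinite g] {L : X.Modules}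
    (hL : PicF.IsInvertible L) (hd : ∀ V : Y.affineOpens, Nonempty (NormData g (f ⁻¹ᵁ V.1)))
    (h : RelAmple.IsRelAmple (g ≫ f) ((Scheme.Modules.pullback g).obj L)) : RelAmple.IsRelAmple f L := by
  refine isRelAmple_of_sections hL fun x => ?_
  obtain ⟨V, hV, hxV, -⟩ := exists_isAffineOpen_mem_and_subset (x := f x) (U := ⊤) trivial
  refine ⟨V, hxV, f.isCompact_preimage hV.isCompact, fun x' hx' => ?_⟩
  obtain ⟨d⟩ := hd ⟨V, hV⟩
  obtain ⟨U, hU, hxU, hUP⟩ := exists_isAffineOpen_mem_and_subset (x := x') (U := f ⁻¹ᵁ V) hx'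
  let P' : X'.Opens := g ⁻¹ᵁ (f ⁻¹ᵁ V)
  let j := P'.ι
  have hA : CohB1.IsAmple (((Scheme.Modules.pullback g).obj L).restrict j) := h.2 ⟨V, hV⟩
  haveI : P'.toScheme.IsSeparated := isSeparated_of_isAmple hA
  have hfin : (g ⁻¹' {x'}).Finite := g.finite_preimage_singleton x'
  obtain ⟨n, s, hZs, hsU, -⟩ := exists_finite_nhd hA (Z := j ⁻¹' (g ⁻¹' {x'}))
    (hfin.preimage j.isOpenEmbedding.injective.injOn) (U := j ⁻¹ᵁ g ⁻¹ᵁ U) fun z hz => by
      show g (j z) ∈ U
      rw [Set.mem_singleton_iff.1 hz]; exact hxU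
  have hL' := PicClLib.isInvertible_pullback g hL
  obtain ⟨e⟩ := cl_eq_iff.1 (show PicF.cl (CohB1.tensorPow (((Scheme.Modules.pullback g).obj L).restrict j) (n + 1)) =
      PicF.cl (((Scheme.Modules.pullback g).obj (CohB1.tensorPow L (n + 1))).restrict j) by
    rw [cl_tensorPow, cl_restrict, cl_restrict,
      show PicF.cl ((Scheme.Modules.pullback g).obj (CohB1.tensorPow L (n + 1))) =
        PicF.pullCl g (PicF.cl (CohB1.tensorPow L (n + 1))) from rfl, cl_tensorPow, pullCl_pow, pullCl_pow]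
    rfl)
  let s₀ := e.hom.app ⊤ (InvX.one s)
  let s₁ : Γ((Scheme.Modules.pullback g).obj (CohB1.tensorPow L (n + 1)), g ⁻¹ᵁ (f ⁻¹ᵁ V)) :=
    AModX.res _ P'.ι_image_top.ge s₀
  have hs₁ : locus s₁ = j ''ᵁ CohB1.genLocus _ s := by
    rw [locus_res, genLocus_eq_locus, ← locus_iso e (InvX.one s),
      image_locus (M := (Scheme.Modules.pullback g).obj (CohB1.tensorPow L (n + 1))) j s₀]
    exact inf_eq_left.2 (le_trans (locus_le (M := (Scheme.Modules.pullback g).obj (CohB1.tensorPow L (n + 1)))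
      (U := j ''ᵁ ⊤) s₀) P'.ι_image_top.le)
  obtain ⟨t, ht1, ht2⟩ := d.exists_norm_section (InvX.isInvertible_tensorPow hL (n + 1)) s₁
  obtain ⟨b, hb⟩ := exists_locus_cl (N := CohB1.tensorPow L ((n + 1) * d.D))
    (show PicF.cl (CohB1.tensorPow (CohB1.tensorPow L (n + 1)) d.D) = _ by
      rw [cl_tensorPow, cl_tensorPow, cl_tensorPow, pow_mul]) t
  refine ⟨(n + 1) * d.D, Nat.mul_pos n.succ_pos d.D_pos, b, ?_, ?_⟩
  · rw [hb]
    refine ht1 x' hx' fun z hz => ?_
    rw [hs₁]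
    have hzP : z ∈ P' := show g z ∈ f ⁻¹ᵁ V from hz ▸ hx'
    exact ⟨⟨z, hzP⟩, hZs (show g (j ⟨z, hzP⟩) ∈ ({x'} : Set X) from hz), rfl⟩
  · rw [hb]
    have hle : locus t ≤ U := fun y hy => by
      obtain ⟨z, hz, hzs⟩ := ht2 y hy
      rw [hs₁] at hzs
      obtain ⟨w, hw, rfl⟩ := hzs
      exact hz ▸ hsU hw
    rw [← inf_eq_right.2 hle]
    exact isAffineOpen_inf_locus (InvX.isInvertible_tensorPow (InvX.isInvertible_tensorPow hL _) _) hU t hUP

end Groth.Agent.NormAmpleX
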