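import Groth.Agent.NormAmpleX.NormAlg
import Mathlib.LinearAlgebra.Determinant

/-!
# The algebra generated by the norms is finite
-/

universe u

set_option backward.isDefEq.respectTransparency false
set_option backward.isDefEq.respectTransparency.types false
set_option linter.style.haveILetI false
set_option maxHeartbeats 800000

open CategoryTheory AlgebraicGeometry TopologicalSpace Opposite

noncomputable section

namespace Groth.Agent.NormAmpleX

open Groth.Agent

/-- Norms of the elements of a finite spanning algebra lie in a finite subalgebra. -/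
theorem exists_finite_norm_subalgebra {R : Type*} [CommRing R] [IsNoetherianRing R] {K : Type*} [CommRing K]
    [Algebra R K] (hK : IsField K) {S : Type*} [CommRing S] [Algebra K S] [Module.Finite K S] {B : Type*} [CommRing B]
    [Algebra R B] [Module.Finite R B] (φ : B →+* S)
    (hφ : ∀ r, φ (algebraMap R B r) = algebraMap K S (algebraMap R K r))
    (hspan : Submodule.span K (Set.range φ) = ⊤) :
    ∃ F : Subalgebra R K, (Subalgebra.toSubmodule F).FG ∧ ∀ b, Algebra.norm K (φ b) ∈ F := by
  classical
  letI := hK.toField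
  letI : Algebra R S := ((algebraMap K S).comp (algebraMap R K)).toAlgebra
  haveI : IsScalarTower R K S := IsScalarTower.of_algebraMap_eq fun _ => rfl
  let ψ : B →ₐ[R] S := { φ with commutes' := hφ }
  obtain ⟨T, hTsub, hTspan, hTli⟩ := exists_linearIndependent K (Set.range φ)
  rw [hspan] at hTspan
  let e' : Module.Basis T K S := Module.Basis.mk hTli (by rw [Subtype.range_coe]; exact hTspan.ge)
  haveI : Finite T := Module.Finite.finite_basis e'
  haveI : Fintype T := Fintype.ofFinite T
  let μ : MultilinearMap R (fun _ : T => B) K :=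
    (e'.det.toMultilinearMap.restrictScalars R).compLinearMap fun _ => ψ.toLinearMap
  have hμ : ∀ v : T → B, μ v = e'.det (fun i => φ (v i)) := fun v => rfl
  obtain ⟨s, hs⟩ := Module.Finite.fg_top (R := R) (M := B)
  let Λ : Submodule R K := Submodule.span R (Set.range fun v : T → s => μ fun i => (v i : B))
  have hΛ : ∀ v, μ v ∈ Λ := fun v => by
    have hmem : ∀ i, ∃ c : B → R, ∑ b ∈ s, c b • b = v i := fun i => by
      obtain ⟨c, hc⟩ := Submodule.mem_span_finset.1 (show v i ∈ Submodule.span R (s : Set B) by rw [hs]; trivial)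
      exact ⟨c, hc.2⟩
    choose c hc using hmem
    have hv : v = fun i => ∑ b : s, c i b • (b : B) := funext fun i => by
      rw [← hc i]
      exact (Finset.sum_coe_sort s fun b => c i b • b).symm
    rw [hv, μ.map_sum]
    refine Submodule.sum_mem _ fun w _ => ?_
    rw [μ.map_smul_univ]
    exact Submodule.smul_mem _ _ (Submodule.subset_span ⟨fun i => w i, rfl⟩)
  choose v₀ hv₀ using fun i : T => hTsub i.2
  have hdet : μ v₀ = 1 := by
    rw [hμ, show (fun i => φ (v₀ i)) = e' from funext fun i => by rw [hv₀ i, Module.Basis.mk_apply]]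
    exact e'.det_self
  let F : Subalgebra R K :=
    { carrier := {x | ∀ y ∈ Λ, x * y ∈ Λ}
      mul_mem' := fun {a b} ha hb y hy => by rw [mul_assoc]; exact ha _ (hb y hy)
      one_mem' := fun y hy => by rw [one_mul]; exact hy
      add_mem' := fun {a b} ha hb y hy => by rw [add_mul]; exact Λ.add_mem (ha y hy) (hb y hy)
      zero_mem' := fun y hy => by rw [zero_mul]; exact Λ.zero_mem
      algebraMap_mem' := fun r y hy => by rw [← Algebra.smul_def]; exact Λ.smul_mem r hy }
  refine ⟨F, ?_, fun b y hy => ?_⟩
  · haveI : Module.Finite R Λ := Module.Finite.span_of_finite R (Set.finite_range _)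
    refine Submodule.FG.of_le (Module.Finite.iff_fg.1 this) fun x hx => ?_
    have := hx _ (hΛ v₀)
    rwa [hdet, mul_one] at this
  · induction hy using Submodule.span_induction with
    | mem z hz =>
      obtain ⟨w, rfl⟩ := hz
      have h1 : Algebra.norm K (φ b) * μ (fun i => (w i : B)) = μ fun i => b * (w i : B) := by
        rw [hμ, hμ, Algebra.norm_apply, ← Module.Basis.det_comp]
        exact congrArg e'.det (funext fun i => (map_mul φ b (w i : B)).symm)
      rw [h1]
      exact hΛ _
    | zero => rw [mul_zero]; exact Λ.zero_mem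
    | add a c _ _ ha hc => rw [mul_add]; exact Λ.add_mem ha hc
    | smul r a _ ha => rw [mul_smul_comm]; exact Λ.smul_mem r ha

variable {X X' : Scheme.{u}} (g : X' ⟶ X) (D : ℕ)

/-- The germs of the functions over an affine open span the algebra at a point. -/
theorem span_range_germF [IsFinite g] {U : X.Opens} (hU : IsAffineOpen U) {x : X} (hx : x ∈ U) :
    Submodule.span (X.presheaf.stalk x) (Set.range (germF g x U hx)) = ⊤ := by
  refine top_le_iff.1 fun s _ => ?_
  obtain ⟨V, hxV, a, rfl⟩ := exists_germF g x s
  obtain ⟨f, hf, hxf⟩ := hU.exists_basicOpen_le (V := V) ⟨x, hxV⟩ hx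
  have hle : X.basicOpen f ≤ U := X.basicOpen_le f
  rw [← germF_res g x hf hxf a]
  generalize AModX.resR (g.preimage_mono hf) a = a₁
  haveI := (hU.preimage g).isLocalization_basicOpen (g.app U f)
  obtain ⟨⟨b, ⟨_, n, rfl⟩⟩, hb⟩ := IsLocalization.surj (Submonoid.powers (g.app U f))
    (AModX.resR (g.preimage_basicOpen f).ge a₁)
  have h1 := congrArg (AModX.resR (g.preimage_basicOpen f).le) hb
  change AModX.resR (g.preimage_basicOpen f).le (AModX.resR (g.preimage_basicOpen f).ge a₁ *
      AModX.resR (X'.basicOpen_le (g.app U f)) (g.app U f ^ n)) =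
    AModX.resR (g.preimage_basicOpen f).le (AModX.resR (X'.basicOpen_le (g.app U f)) b) at h1
  rw [map_mul, AModX.resR_resR, AModX.resR_resR, AModX.resR_resR, AModX.resR_self] at h1
  have h2 := congrArg (germF g x (X.basicOpen f) hxf) h1
  rw [map_mul, germF_res g x hle hxf, germF_res g x hle hxf, map_pow, germF_app] at h2
  obtain ⟨v, hv⟩ := ((X.mem_basicOpen f x hx).1 hxf).exists_right_inv
  rw [show germF g x (X.basicOpen f) hxf a₁ = v ^ n • germF g x U hx b by
    rw [← h2, Algebra.smul_def, map_pow, mul_left_comm, ← mul_pow, ← map_mul, mul_comm v, hv, map_one, one_pow, mul_one]]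
  exact Submodule.smul_mem _ _ (Submodule.subset_span ⟨b, rfl⟩)

theorem algStr_finite [IsReduced X] [IsNoetherian X] [IsFinite g] {U : X.Opens} (hU : IsAffineOpen U) :
    RingHom.Finite ((ratGerm U).codRestrict (normAlg g D U) fun c => ratGerm_mem g D U c) := by
  classical
  haveI : IsNoetherianRing Γ(X, U) := IsLocallyNoetherian.component_noetherian ⟨U, hU⟩
  haveI : Finite (irreducibleComponents (X : Type u)) := (NoetherianSpace.finite_irreducibleComponents (α := X)).to_subtype
  haveI : Finite (genericPoints (X : Type u)) := Finite.of_equiv _ (genericPoints.equiv (α := X)).symm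
  haveI : Finite (GPt U) := Finite.of_injective (β := genericPoints (X : Type u))
    (fun η : GPt U => ⟨η.1, η.2.1⟩) fun a b e => Subtype.ext (congrArg Subtype.val e :)
  letI := fun η : GPt U => (X.presheaf.germ U η.1 η.2.2).hom.toAlgebra
  letI := (g.app U).hom.toAlgebra
  haveI : Module.Finite Γ(X, U) Γ(X', g ⁻¹ᵁ U) := g.finite_app U hU
  have hF : ∀ η : GPt U, ∃ F : Subalgebra Γ(X, U) (X.presheaf.stalk η.1), (Subalgebra.toSubmodule F).FG ∧
      ∀ a, Algebra.norm (X.presheaf.stalk η.1) (germF g η.1 U η.2.2 a) ∈ F := fun η => by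
    haveI := finite_fib g η.1
    exact exists_finite_norm_subalgebra (isField_stalk_of_generic η.2.1) (germF g η.1 U η.2.2)
      (fun r => germF_app g η.1 U η.2.2 r) (span_range_germF g hU η.2.2)
  choose F hFG hmem using hF
  let P : Subring (RatFun U) := ⨅ η : GPt U, (F η).toSubring.comap (Pi.evalRingHom (fun η' : GPt U => X.presheaf.stalk η'.1) η)
  have hle : normAlg g D U ≤ P := by
    refine Subring.closure_le.2 ?_
    rintro _ (⟨c, rfl⟩ | ⟨a, rfl⟩) <;> refine Subring.mem_iInf.2 fun η => ?_
    · exact (F η).algebraMap_mem c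
    · exact (F η).pow_mem (hmem η a) _
  letI : Algebra Γ(X, U) (normAlg g D U) :=
    ((ratGerm U).codRestrict (normAlg g D U) fun c => ratGerm_mem g D U c).toAlgebra
  show Module.Finite Γ(X, U) (normAlg g D U)
  haveI : ∀ η, Module.Finite Γ(X, U) (F η) := fun η =>
    Module.Finite.iff_fg.2 (hFG η)
  let θ : normAlg g D U →ₗ[Γ(X, U)] ∀ η, F η :=
    { toFun := fun z η => ⟨z.1 η, Subring.mem_iInf.1 (hle z.2) η⟩
      map_add' := fun _ _ => rfl
      map_smul' := fun _ _ => rfl }
  exact Module.Finite.of_injective θ fun a b h => Subtype.ext (funext fun η =>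
    congrArg Subtype.val (congrFun h η))

end Groth.Agent.NormAmpleX
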