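import Groth.Agent.NormAmpleX.Normal
import Groth.Agent.NormAmpleX.LineNorm
import Groth.Prelude.Def_Fitting

/-!
# The norm of a finite surjective morphism of integral schemes to a normal one
-/

universe u

set_option backward.isDefEq.respectTransparency false
set_option backward.isDefEq.respectTransparency.types false
set_option linter.style.haveILetI false
set_option maxHeartbeats 800000

open CategoryTheory AlgebraicGeometry TopologicalSpace Polynomial

namespace Groth.Agent.NormAmpleX

open Groth.Agent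

/-- An element in a prime over `p` has norm in `p`, for a domain over a field. -/
theorem mem_of_norm_pow_domain {R : Type*} [CommRing R] {K : Type u} [CommRing K] [Algebra R K] (hK : IsField K)
    {S : Type*} [CommRing S] [IsDomain S] [Algebra K S] [Algebra R S] [IsScalarTower R K S] [Module.Finite K S]
    {B : Type*} [CommRing B] [Algebra R B] [Algebra.IsIntegral R B] (φ : B →ₐ[R] S) (hφ : Function.Injective φ)
    (p : Ideal R) (Q₀ : Ideal B) [Q₀.IsPrime] (hQ₀ : Q₀.comap (algebraMap R B) = p) {a : B} (ha : a ∈ Q₀)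
    {e : ℕ} (he : e ≠ 0) {v : R} (hv : algebraMap R K v = Algebra.norm K (φ a) ^ e) : v ∈ p := by
  classical
  letI := hK.toField
  let L := AlgebraicClosure K
  letI : Algebra R L := AlgebraicClosure.instAlgebra K
  haveI : IsScalarTower R K L := inferInstance
  haveI : Algebra.IsIntegral K S := Algebra.IsIntegral.of_finite K S
  letI := (isField_of_isIntegral_of_isField' (S := S) hK).toField
  let σ : S →ₐ[K] L := IsAlgClosed.lift
  let b := Module.finBasis K S
  let M : Matrix (Fin (Module.finrank K S)) (Fin (Module.finrank K S)) L :=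
    (Algebra.leftMulMatrix b (φ a)).map (algebraMap K L)
  have hMc : M.charpoly = (Algebra.leftMulMatrix b (φ a)).charpoly.map (algebraMap K L) := Matrix.charpoly_map _ _
  have hσroot : σ (φ a) ∈ M.charpoly.roots := by
    rw [mem_roots M.charpoly_monic.ne_zero, IsRoot.def, hMc, eval_map_algebraMap, aeval_algHom_apply]
    have h0 : aeval (φ a) (Algebra.leftMulMatrix b (φ a)).charpoly = 0 := by
      refine Algebra.leftMulMatrix_injective b ?_
      rw [← aeval_algHom_apply, map_zero]
      exact Matrix.aeval_self_charpoly _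
    rw [h0, map_zero]
  have hint : ∀ c ∈ M.charpoly.roots, IsIntegral R c := fun c hc => by
    obtain ⟨P, hP, hPa⟩ := (Algebra.IsIntegral.isIntegral (R := R) a).map φ
    refine ⟨P, hP, ?_⟩
    rw [mem_roots M.charpoly_monic.ne_zero] at hc
    haveI : Nonempty (Fin (Module.finrank K S)) := Fin.pos_iff_nonempty.1 Module.finrank_pos
    let ψ : S →ₐ[R] Matrix (Fin (Module.finrank K S)) (Fin (Module.finrank K S)) L :=
      ((Algebra.ofId K L).mapMatrix.comp (Algebra.leftMulMatrix b)).restrictScalars R
    have h0 : aeval M (P.map (algebraMap R L)) = 0 := by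
      rw [aeval_map_algebraMap, show M = ψ (φ a) from rfl, aeval_algHom_apply,
        show aeval (φ a) P = 0 from hPa, map_zero]
    have h1 : (P.map (algebraMap R L)).eval c ∈ spectrum L (aeval M (P.map (algebraMap R L))) :=
      spectrum.subset_polynomial_aeval M _ ⟨c, Matrix.mem_spectrum_of_isRoot_charpoly hc, rfl⟩
    rw [h0, spectrum.zero_eq, Set.mem_singleton_iff, Polynomial.eval_map] at h1
    exact h1
  let C := integralClosure R L
  let τ : B →ₐ[R] C := ((σ.restrictScalars R).comp φ).codRestrict C fun x =>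
    (Algebra.IsIntegral.isIntegral (R := R) x).map ((σ.restrictScalars R).comp φ)
  letI : Algebra B C := τ.toRingHom.toAlgebra
  haveI : IsScalarTower R B C := IsScalarTower.of_algebraMap_eq fun x => (τ.commutes x).symm
  haveI : Algebra.IsIntegral B C := Algebra.IsIntegral.tower_top R
  have hker : RingHom.ker (algebraMap B C) ≤ Q₀ := fun x hx => by
    have h1 : σ (φ x) = 0 := congrArg Subtype.val (RingHom.mem_ker.1 hx)
    rw [hφ ((σ.toRingHom.injective (h1.trans (map_zero σ.toRingHom).symm)).trans (map_zero φ).symm)]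
    exact Q₀.zero_mem
  obtain ⟨Q, hQ, hQ'⟩ := Ideal.exists_ideal_over_prime_of_isIntegral_of_isDomain Q₀ hker
  let rC : Multiset C := M.charpoly.roots.attach.map fun c => ⟨c.1, hint c.1 c.2⟩
  have hmem : τ a ∈ Q := show a ∈ Q.comap (algebraMap B C) from hQ'.symm ▸ ha
  have hprod : rC.prod ∈ Q := Ideal.mem_of_dvd _
    (Multiset.dvd_prod (Multiset.mem_map.2 ⟨⟨σ (φ a), hσroot⟩, Multiset.mem_attach _ _, rfl⟩)) hmem
  have hval : algebraMap R C v = rC.prod ^ e := Subtype.ext (by
    rw [show ((rC.prod ^ e : C) : L) = C.val (rC.prod ^ e) from rfl, map_pow, map_multiset_prod, Multiset.map_map]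
    show algebraMap R L v = _
    rw [IsScalarTower.algebraMap_apply R K L, hv, map_pow, Algebra.norm_eq_matrix_det b, RingHom.map_det]
    congr 1
    show M.det = _
    rw [Matrix.det_eq_prod_roots_charpoly]
    congr 1
    exact M.charpoly.roots.attach_map_val.symm)
  rw [← hQ₀, ← hQ', Ideal.mem_comap, Ideal.mem_comap, ← IsScalarTower.algebraMap_apply, hval]
  exact Q.pow_mem_of_mem hprod e (Nat.pos_of_ne_zero he)

variable {X Y : Scheme.{u}}

theorem hasNorm_of_integral (π : X ⟶ Y) [IsFinite π] [Surjective π] [IsIntegral X] [IsIntegral Y]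
    (hY : ∀ y : Y, IsDomain (Y.presheaf.stalk y) ∧ IsIntegrallyClosed (Y.presheaf.stalk y)) :
    ∃ d : ℕ, Nrm.HasNorm π d := by
  classical
  let η : Y := π (genericPoint X)
  have hgen : IsGenericPoint η ⊤ := by
    have h := (genericPoint_spec X).image π.continuous
    rwa [Set.image_univ, π.surjective.range_eq, closure_univ] at h
  have hη : η ∈ genericPoints (Y : Type u) := by
    show closure {η} ∈ irreducibleComponents (Y : Type u)
    rw [hgen.def, irreducibleComponents_eq_singleton]
    exact Set.mem_singleton _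
  have hall : ∀ η' ∈ genericPoints (Y : Type u), η' = η := fun η' hη' =>
    (eq_of_specializes_generic hη' (hgen.specializes (Set.mem_univ η'))).symm
  have hG : (genericPoints (Y : Type u)).Finite := (Set.finite_singleton η).subset hall
  let D := deg π η
  have hD : 0 < D := deg_pos hη
  have hdvd : ∀ η' ∈ genericPoints (Y : Type u), deg π η' ∣ D := fun η' h => hall η' h ▸ dvd_rfl
  choose N hN using fun (W : Y.Opens) (h : IsAffineOpen W) (a : Γ(X, π ⁻¹ᵁ W)) =>
    exists_isNorm hG D (fun y => Or.inl (hY y)) h a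
  let d : MulNorm π :=
    { ok := fun W => IsAffineOpen W
      exists_ok := fun y W hy => by
        obtain ⟨U, hU, hyU, hUW⟩ := exists_isAffineOpen_mem_and_subset (x := y) (U := W) hy
        exact ⟨U, hyU, hUW, hU⟩
      N := fun W h =>
        { toFun := N W h
          map_one' := (hN W h 1).unique fun η _ hη => by rw [map_one, map_one, map_one, one_pow]
          map_mul' := fun a b => (hN W h _).unique fun η hη hηW => by
            rw [map_mul, hN W h a η hη hηW, hN W h b η hη hηW, map_mul, map_mul, mul_pow] }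
      res := fun W W' h h' hle a => ((hN W h a).res hle).unique (hN W' h' _)
      vanish := fun W h a y hy hv => (hN W h a).vanish hD hdvd h hy hv }
  refine ⟨D, ⟨⟨hD, d.ext, fun {U V} i s => ?_, fun U c => ?_, fun U s x hx hs => ?_⟩⟩⟩
  · refine (d.existsUnique_ext V _).choose_spec.2 _ fun W hW h => ?_
    show AModX.resR h (AModX.resR i.le (d.ext U s)) = _
    rw [AModX.resR_resR, d.ext_res hW]
    refine congrArg _ ?_
    show AModX.resR _ s = AModX.resR _ (AModX.resR (π.preimage_mono i.le) s)
    rw [AModX.resR_resR]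
  · refine ((d.existsUnique_ext U _).choose_spec.2 _ fun W hW h => ?_).symm
    show AModX.resR h (c ^ D) = N W hW _
    refine (hN W hW _).unique (fun η' hη' hηW => ?_) |>.symm
    letI := (isField_stalk_of_generic hη').toField
    rw [germF_res π η' h hηW, germF_app, Algebra.norm_algebraMap, map_pow, map_pow, germ_resR η' h hηW, ← pow_mul]
    exact congrArg (_ ^ ·) (Nat.mul_div_cancel' (hdvd η' hη')).symm
  · obtain ⟨W, hW, hxW, hWU⟩ := exists_isAffineOpen_mem_and_subset (x := π x) (U := U) hx
    intro hu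
    have hv : π x ∈ Y.basicOpen (N W hW (AModX.resR (π.preimage_mono hWU) s)) := by
      rw [Y.mem_basicOpen _ (π x) hxW, show N W hW (AModX.resR (π.preimage_mono hWU) s) =
        AModX.resR hWU (d.ext U s) from (d.ext_res (W := U) hW hWU s).symm, germ_resR _ hWU hxW]
      exact hu
    have hsx : x ∉ X.basicOpen (AModX.resR (π.preimage_mono hWU) s) := fun h => hs (by
      rw [← TopCat.Presheaf.germ_res_apply X.presheaf (homOfLE (π.preimage_mono hWU)) x hxW s]
      exact (X.mem_basicOpen _ x hxW).1 h)
    generalize AModX.resR (π.preimage_mono hWU) s = a at hv hsx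
    letI := (π.app W).hom.toAlgebra
    haveI : Module.Finite Γ(Y, W) Γ(X, π ⁻¹ᵁ W) := π.finite_app W hW
    haveI : Algebra.IsIntegral Γ(Y, W) Γ(X, π ⁻¹ᵁ W) := Algebra.IsIntegral.of_finite _ _
    have hηW : η ∈ W := (hgen.specializes (Set.mem_univ (π x))).mem_open W.2 hxW
    haveI := finite_fib π η
    let ρ : fib π η →+* X.presheaf.stalk (genericPoint X) :=
      (TopCat.Presheaf.stalkPushforward CommRingCat π.base X.presheaf (genericPoint X)).hom
    have hρ : ∀ (V : Y.Opens) (hV : η ∈ V) (b : Γ(X, π ⁻¹ᵁ V)),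
        ρ (germF π η V hV b) = X.presheaf.germ (π ⁻¹ᵁ V) (genericPoint X) hV b := fun V hV b =>
      congr($(TopCat.Presheaf.stalkPushforward_germ CommRingCat π.base X.presheaf V (genericPoint X) hV).hom b)
    have hρinj : Function.Injective ρ := (injective_iff_map_eq_zero ρ).2 fun z hz => by
      obtain ⟨V, hV, b, rfl⟩ := exists_germF π η z
      rw [hρ] at hz
      rw [germ_injective_of_isIntegral X (U := π ⁻¹ᵁ V) (genericPoint X) hV
        (hz.trans (map_zero (X.presheaf.germ (π ⁻¹ᵁ V) (genericPoint X) hV).hom).symm), map_zero]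
    haveI : IsDomain (fib π η) := hρinj.isDomain ρ
    letI : Algebra Γ(Y, W) (Y.presheaf.stalk η) := (Y.presheaf.germ W η hηW).hom.toAlgebra
    letI : Algebra Γ(Y, W) (fib π η) :=
      ((algebraMap (Y.presheaf.stalk η) (fib π η)).comp (Y.presheaf.germ W η hηW).hom).toAlgebra
    haveI : IsScalarTower Γ(Y, W) (Y.presheaf.stalk η) (fib π η) := IsScalarTower.of_algebraMap_eq fun _ => rfl
    let φ : Γ(X, π ⁻¹ᵁ W) →ₐ[Γ(Y, W)] fib π η :=
      { germF π η W hηW with commutes' := fun c => germF_app π η W hηW c }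
    have hφ : Function.Injective φ := fun b b' h => germ_injective_of_isIntegral X (U := π ⁻¹ᵁ W)
      (genericPoint X) hηW ((hρ W hηW b).symm.trans ((congrArg ρ h).trans (hρ W hηW b')))
    let hWx := hW.preimage π
    let Q₀ := (hWx.primeIdealOf ⟨x, hxW⟩).asIdeal
    have hp : ∀ {Z : Scheme.{u}} {W' : Z.Opens} (hW' : IsAffineOpen W') (z : Z) (hz : z ∈ W') (f : Γ(Z, W')),
        z ∈ Z.basicOpen f ↔ f ∉ (hW'.primeIdealOf ⟨z, hz⟩).asIdeal := fun {Z W'} hW' z hz f => by
      have h2 : hW'.primeIdealOf ⟨z, hz⟩ ∈ hW'.fromSpec ⁻¹ᵁ Z.basicOpen f ↔ z ∈ Z.basicOpen f := by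
        show hW'.fromSpec (hW'.primeIdealOf ⟨z, hz⟩) ∈ Z.basicOpen f ↔ _
        rw [hW'.fromSpec_primeIdealOf]
      rw [← h2, hW'.fromSpec_preimage_basicOpen f]
      rfl
    have hQ₀ : Q₀.comap (algebraMap Γ(Y, W) Γ(X, π ⁻¹ᵁ W)) = (hW.primeIdealOf ⟨π x, hxW⟩).asIdeal := by
      ext f
      rw [Ideal.mem_comap, ← not_iff_not, ← hp hWx x hxW, ← hp hW (π x) hxW]
      show x ∈ X.basicOpen (π.app W f) ↔ _
      rw [← π.preimage_basicOpen]
      rfl
    have hmem := mem_of_norm_pow_domain (isField_stalk_of_generic hη) φ hφ _ Q₀ hQ₀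
      (a := a) (not_not.1 fun h => hsx ((hp hWx x hxW a).2 h))
      (e := D / deg π η) (by rw [Nat.div_self hD]; exact one_ne_zero) (v := N W hW a) (hN W hW a η hη hηW)
    exact (hp hW (π x) hxW _).1 hv hmem

end Groth.Agent.NormAmpleX
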