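import Groth.Agent.NormAmpleX.Finite

/-!
# The finite birational model receiving the norms
-/

universe u

set_option backward.isDefEq.respectTransparency false
set_option backward.isDefEq.respectTransparency.types false
set_option linter.style.haveILetI false
set_option maxHeartbeats 800000

open CategoryTheory AlgebraicGeometry TopologicalSpace Opposite

noncomputable section

namespace Groth.Agent.NormAmpleX

open Groth.Agent

variable {X X' : Scheme.{u}} [IsReduced X] (g : X' ⟶ X) [IsFinite g] {D : ℕ}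
  (hdvd : ∀ η ∈ genericPoints (X : Type u), deg g η ∣ D)

/-- The model. -/
def model : Scheme.{u} := SymAlgX.tot (algStr_coequifibered g D hdvd)

/-- Its structure map. -/
def modelπ : model g hdvd ⟶ X := SymAlgX.totπ (algStr_coequifibered g D hdvd)

instance : IsAffineHom (modelπ g hdvd) := SymAlgX.isAffineHom_totπ _

/-- Its functions over an affine open. -/
def modelSec (U : X.AffineZariskiSite) :
    Γ(model g hdvd, modelπ g hdvd ⁻¹ᵁ U.1) ≅ CommRingCat.of (normAlg g D U.1) :=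
  @asIso _ _ _ _ (SymAlgX.secHom (algStr_coequifibered g D hdvd) U) (SymAlgX.isIso_secHom _ U)

theorem app_modelSec (U : X.AffineZariskiSite) :
    (modelπ g hdvd).app U.1 ≫ (modelSec g hdvd U).hom =
      CommRingCat.ofHom ((ratGerm U.1).codRestrict (normAlg g D U.1) fun c => ratGerm_mem g D _ c) :=
  SymAlgX.str_secHom (algStr_coequifibered g D hdvd) U

theorem modelSec_res {U V : X.Opens} (hU : IsAffineOpen U) (hV : IsAffineOpen V) (f : Γ(X, U))
    (hVf : V = X.basicOpen f) (z : Γ(model g hdvd, modelπ g hdvd ⁻¹ᵁ U)) :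
    (modelSec g hdvd ⟨V, hV⟩).hom (AModX.resR ((modelπ g hdvd).preimage_mono (hVf.le.trans (X.basicOpen_le f))) z) =
      algRes g D (hVf.le.trans (X.basicOpen_le f)) ((modelSec g hdvd ⟨U, hU⟩).hom z) := by
  subst hVf
  let U' : X.AffineZariskiSite := ⟨U, hU⟩
  have i : U'.basicOpen f ⟶ U' := homOfLE (Scheme.AffineZariskiSite.basicOpen_le U' f)
  exact ConcreteCategory.congr_hom (SymAlgX.secHom_natural (algStr_coequifibered g D hdvd) i) z

instance [IsNoetherian X] : IsFinite (modelπ g hdvd) where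
  finite_app U hU := by
    have h := app_modelSec g hdvd ⟨U, hU⟩
    have h2 : (modelπ g hdvd).app U = CommRingCat.ofHom ((ratGerm U).codRestrict (normAlg g D U)
        fun c => ratGerm_mem g D _ c) ≫ (modelSec g hdvd ⟨U, hU⟩).inv := by
      rw [← h, Category.assoc, Iso.hom_inv_id, Category.comp_id]
    rw [h2, CommRingCat.hom_comp]
    exact (RingHom.Finite.of_surjective _ (ConcreteCategory.bijective_of_isIso (modelSec g hdvd ⟨U, hU⟩).inv).2).comp
      (algStr_finite g D hU)

theorem isReduced_model : IsReduced (model g hdvd) := by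
  let 𝒰 := (SymAlgX.gd (algStr_coequifibered g D hdvd)).cover
  haveI : ∀ U, IsReduced (𝒰.X U) := fun U => by
    haveI := isReduced_normAlg g D U.1
    exact (inferInstance : IsReduced (Spec (CommRingCat.of (normAlg g D U.1))))
  exact IsReduced.of_openCover _ 𝒰

theorem isIso_restrict_of_surjective {U : X.Opens} (hU : IsAffineOpen U)
    (hs : ∀ z ∈ normAlg g D U, ∃ c, ratGerm U c = z) : IsIso (modelπ g hdvd ∣_ U) := by
  let H := algStr_coequifibered g D hdvd
  let V : X.AffineZariskiSite := ⟨U, hU⟩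
  haveI : IsIso ((algStr g D).app (op V)) := (ConcreteCategory.isIso_iff_bijective _).2
    ⟨fun a b h => ratGerm_injective U (congrArg Subtype.val h), fun z => by
      obtain ⟨c, hc⟩ := hs z.1 z.2
      exact ⟨c, Subtype.ext hc⟩⟩
  have hr : Set.range (modelπ g hdvd ⁻¹ᵁ U).ι = Set.range (SymAlgX.totι H V) := by
    rw [Scheme.Opens.range_ι, ← Scheme.Hom.coe_opensRange]
    exact congrArg (fun O : (model g hdvd).Opens => (O : Set (model g hdvd))) (SymAlgX.totπ_preimage H V)
  let c := IsOpenImmersion.isoOfRangeEq (modelπ g hdvd ⁻¹ᵁ U).ι (SymAlgX.totι H V) hr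
  have h : (modelπ g hdvd ∣_ U) ≫ hU.isoSpec.hom =
      c.hom ≫ Spec.map ((algStr g D).app (op V)) := by
    rw [← cancel_mono hU.fromSpec, Category.assoc, Category.assoc, IsAffineOpen.isoSpec_hom_fromSpec,
      morphismRestrict_ι]
    show _ = c.hom ≫ Spec.map ((algStr g D).app (op V)) ≫ V.2.fromSpec
    rw [← SymAlgX.totι_π H V, ← Category.assoc, IsOpenImmersion.isoOfRangeEq_hom_fac]
    rfl
  have : IsIso ((modelπ g hdvd ∣_ U) ≫ hU.isoSpec.hom) := by rw [h]; infer_instance
  exact IsIso.of_isIso_comp_right _ hU.isoSpec.hom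

theorem isIso_restrict_of_cover {W : X.Opens}
    (h : ∀ x ∈ W, ∃ U : X.Opens, x ∈ U ∧ U ≤ W ∧ IsIso (modelπ g hdvd ∣_ U)) : IsIso (modelπ g hdvd ∣_ W) := by
  choose U hxU hUW hiso using h
  refine (IsZariskiLocalAtTarget.iff_of_iSup_eq_top (P := MorphismProperty.isomorphisms Scheme.{u})
    (f := modelπ g hdvd ∣_ W) (fun i : {x // x ∈ W} => W.ι ⁻¹ᵁ U i.1 i.2)
    (top_le_iff.1 fun a _ => Opens.mem_iSup.2 ⟨⟨a.1, a.2⟩, hxU a.1 a.2⟩)).2 fun i => ?_
  rw [MorphismProperty.arrow_mk_iso_iff (.isomorphisms Scheme.{u}) (morphismRestrictRestrict _ W _),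
    show W.ι ''ᵁ (W.ι ⁻¹ᵁ U i.1 i.2) = U i.1 i.2 by
      rw [Scheme.Hom.image_preimage_eq_opensRange_inf, Scheme.Opens.opensRange_ι, inf_eq_right.2 (hUW i.1 i.2)]]
  exact hiso i.1 i.2

/-- Near a generic point the model is the base. -/
theorem exists_generic_iso [IsNoetherian X] {η : X} (hη : η ∈ genericPoints (X : Type u)) :
    ∃ U : X.Opens, η ∈ U ∧ IsIso (modelπ g hdvd ∣_ U) := by
  classical
  obtain ⟨U, hU, hηU, -⟩ := exists_isAffineOpen_mem_and_subset (x := η) (U := (⊤ : X.Opens)) trivial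
  haveI : Finite (irreducibleComponents (X : Type u)) := (NoetherianSpace.finite_irreducibleComponents (α := X)).to_subtype
  haveI : Finite (genericPoints (X : Type u)) := Finite.of_equiv _ (genericPoints.equiv (α := X)).symm
  -- a function supported at `η` only
  let E : Set X := ⋃ η' ∈ genericPoints (X : Type u) \ {η}, closure {η'}
  have hE : IsClosed E := (Set.toFinite (genericPoints (X : Type u))).sdiff.isClosed_biUnion fun _ _ => isClosed_closure
  have hηE : η ∉ E := fun h => by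
    obtain ⟨η', hη', hy⟩ := Set.mem_iUnion₂.1 h
    exact hη'.2 (eq_of_specializes_generic hη (specializes_iff_mem_closure.2 hy))
  obtain ⟨e, heE, hηe⟩ := hU.exists_basicOpen_le (V := (U ⊓ ⟨Eᶜ, hE.isOpen_compl⟩ : X.Opens)) ⟨η, hηU, hηE⟩ hηU
  -- finitely many generators
  have hfin := algStr_finite g D hU
  letI : Algebra Γ(X, U) (normAlg g D U) :=
    ((ratGerm U).codRestrict (normAlg g D U) fun c => ratGerm_mem g D U c).toAlgebra
  haveI : Module.Finite Γ(X, U) (normAlg g D U) := hfin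
  obtain ⟨s, hs⟩ := Module.Finite.fg_top (R := Γ(X, U)) (M := normAlg g D U)
  letI := TopCat.Presheaf.algebra_section_stalk X.presheaf (U := U) ⟨η, hηU⟩
  haveI := hU.isLocalization_stalk ⟨η, hηU⟩
  obtain ⟨t, ht⟩ := IsLocalization.exist_integer_multiples_of_finset
    (hU.primeIdealOf ⟨η, hηU⟩).asIdeal.primeCompl (s.image fun z : normAlg g D U => z.1 ⟨η, hη, hηU⟩)
  let f : Γ(X, U) := e * t.1
  have hηf : η ∈ X.basicOpen f := by
    rw [Scheme.basicOpen_mul]
    refine ⟨hηe, (X.mem_basicOpen t.1 η hηU).2 ?_⟩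
    exact IsLocalization.map_units (X.presheaf.stalk η) t
  refine ⟨X.basicOpen f, hηf, isIso_restrict_of_surjective g hdvd (hU.basicOpen f) fun z hz => ?_⟩
  have hgen : ∀ z : normAlg g D U, ∃ c : Γ(X, U), z.1 ⟨η, hη, hηU⟩ * X.presheaf.germ U η hηU t.1 = X.presheaf.germ U η hηU c := by
    intro z
    have hz : z ∈ Submodule.span Γ(X, U) (s : Set (normAlg g D U)) := by rw [hs]; trivial
    induction hz using Submodule.span_induction with
    | mem w hw =>
      obtain ⟨c, hc⟩ := ht _ (Finset.mem_image_of_mem _ hw)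
      exact ⟨c, (mul_comm _ _).trans hc.symm⟩
    | zero => exact ⟨0, by rw [map_zero]; exact zero_mul _⟩
    | add a b _ _ ha hb =>
      obtain ⟨c, hc⟩ := ha
      obtain ⟨d, hd⟩ := hb
      exact ⟨c + d, by rw [map_add, ← hc, ← hd]; exact add_mul _ _ _⟩
    | smul r a _ ha =>
      obtain ⟨c, hc⟩ := ha
      refine ⟨r * c, ?_⟩
      rw [map_mul, ← hc, ← mul_assoc]
      rfl
  have honly : ∀ η' : GPt (X.basicOpen f), η'.1 = η := fun η' => by
    by_contra hne
    have h1 : η'.1 ∈ X.basicOpen e := by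
      exact ((Scheme.basicOpen_mul _ e t.1).le η'.2.2).1
    exact (heE h1).2 (Set.mem_iUnion₂.2 ⟨η'.1, ⟨η'.2.1, hne⟩, subset_closure rfl⟩)
  letI := (algRes g D (X.basicOpen_le f)).toAlgebra
  haveI := algRes_isLocalization g D hdvd hU f
  obtain ⟨⟨b, ⟨_, n, rfl⟩⟩, hb⟩ := IsLocalization.surj
    (Submonoid.powers (⟨ratGerm U f, ratGerm_mem g D U f⟩ : normAlg g D U)) (⟨z, hz⟩ : normAlg g D (X.basicOpen f))
  obtain ⟨c, hc⟩ := hgen b
  have hu : IsUnit (AModX.resR (X.basicOpen_le f) (f ^ n * t.1)) := by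
    refine X.toRingedSpace.isUnit_of_isUnit_germ _ _ fun x hx => ?_
    rw [show X.toRingedSpace.presheaf.germ (X.basicOpen f) x hx (AModX.resR (X.basicOpen_le f) (f ^ n * t.1)) =
      X.presheaf.germ U x (X.basicOpen_le f hx) (f ^ n * t.1) from
        TopCat.Presheaf.germ_res_apply X.presheaf (homOfLE (X.basicOpen_le f)) x hx _]
    have hxf := (X.mem_basicOpen f x (X.basicOpen_le f hx)).1 hx
    rw [map_mul, map_pow]
    refine (hxf.pow n).mul ?_
    rw [show X.presheaf.germ U x (X.basicOpen_le f hx) f = X.presheaf.germ U x _ e * X.presheaf.germ U x _ t.1 from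
      map_mul _ e t.1] at hxf
    exact isUnit_of_mul_isUnit_right hxf
  obtain ⟨v, hv⟩ := hu.exists_right_inv
  refine ⟨AModX.resR (X.basicOpen_le f) c * v, funext fun η' => ?_⟩
  obtain ⟨η', hη'⟩ := η'
  obtain rfl : η' = η := honly ⟨η', hη'⟩
  have hb' : z ⟨η', hη'⟩ * X.presheaf.germ U η' hηU f ^ n = b.1 ⟨η', hη, hηU⟩ :=
    congrFun (congrArg Subtype.val hb) ⟨η', hη'⟩
  have hv' := congrArg (X.presheaf.germ (X.basicOpen f) η' hη'.2) hv
  rw [map_mul, map_one, germ_resR η' (X.basicOpen_le f) hη'.2, map_mul, map_pow] at hv'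
  show X.presheaf.germ (X.basicOpen f) η' hη'.2 (_ * v) = _
  rw [map_mul, germ_resR η' (X.basicOpen_le f) hη'.2, ← hc, ← hb', mul_assoc, mul_assoc]
  rw [mul_assoc] at hv'
  rw [hv', mul_one]

/-- A dense open over which the model is the base. -/
theorem exists_dense_iso [IsNoetherian X] :
    ∃ V : X.Opens, Dense (V : Set X) ∧ Dense ((modelπ g hdvd ⁻¹ᵁ V : (model g hdvd).Opens) : Set (model g hdvd)) ∧
      IsIso (modelπ g hdvd ∣_ V) := by
  choose U hηU hiso using fun η : {η : X // η ∈ genericPoints (X : Type u)} => exists_generic_iso g hdvd η.2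
  refine ⟨⨆ η, U η, ?_, ?_, isIso_restrict_of_cover g hdvd fun x hx => ?_⟩
  · rw [dense_iff_inter_open]
    rintro O hO ⟨x, hx⟩
    obtain ⟨η, hη, hηx⟩ := exists_generic_specializes x
    exact ⟨η, hηx.mem_open hO hx, Opens.mem_iSup.2 ⟨⟨η, hη⟩, hηU _⟩⟩
  · rw [dense_iff_inter_open]
    rintro O hO ⟨z, hz⟩
    obtain ⟨W, hW, hzW, -⟩ := exists_isAffineOpen_mem_and_subset (x := modelπ g hdvd z) (U := (⊤ : X.Opens)) trivial
    let V : X.AffineZariskiSite := ⟨W, hW⟩
    let H := algStr_coequifibered g D hdvd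
    obtain ⟨p, hp⟩ : z ∈ Set.range (SymAlgX.totι H V) := (SymAlgX.totπ_preimage H V).le hzW
    let O' : Set (PrimeSpectrum (normAlg g D W)) := SymAlgX.totι H V ⁻¹' O
    have hO' : IsOpen O' := hO.preimage (SymAlgX.totι H V).continuous
    obtain ⟨_, ⟨x, rfl⟩, hpx, hxO⟩ := PrimeSpectrum.isTopologicalBasis_basic_opens.exists_subset_of_mem_open
      (show p ∈ O' by show SymAlgX.totι H V p ∈ O; rw [hp]; exact hz) hO'
    obtain ⟨η, hxη⟩ : ∃ η : GPt W, x.1 η ≠ 0 := by
      by_contra! h0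
      have : x = 0 := Subtype.ext (funext h0)
      subst this
      exact hpx (Ideal.zero_mem _)
    let π' : normAlg g D W →+* X.presheaf.stalk η.1 :=
      (Pi.evalRingHom (fun η' : GPt W => X.presheaf.stalk η'.1) η).comp (normAlg g D W).subtype
    letI := (isField_stalk_of_generic η.2.1).toField
    let q : PrimeSpectrum (normAlg g D W) := PrimeSpectrum.comap π' ⟨⊥, Ideal.isPrime_bot⟩
    refine ⟨SymAlgX.totι H V q, hxO (show x ∉ q.asIdeal from hxη), Opens.mem_iSup.2 ⟨⟨η.1, η.2.1⟩, ?_⟩⟩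
    have h1 : modelπ g hdvd (SymAlgX.totι H V q) = η.1 := by
      show (SymAlgX.totι H V ≫ SymAlgX.totπ H) q = η.1
      rw [SymAlgX.totι_π H V]
      refine Eq.trans ?_ (hW.fromSpec_primeIdealOf ⟨η.1, η.2.2⟩)
      refine congrArg hW.fromSpec (PrimeSpectrum.ext ?_)
      rw [IsAffineOpen.primeIdealOf_eq_map_closedPoint]
      show Ideal.comap (X.presheaf.germ W η.1 η.2.2).hom ⊥ = Ideal.comap (X.presheaf.germ W η.1 η.2.2).hom _
      exact congrArg _ (IsLocalRing.isField_iff_maximalIdeal_eq.1 (isField_stalk_of_generic η.2.1)).symm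
    show modelπ g hdvd _ ∈ U ⟨η.1, η.2.1⟩
    rw [h1]
    exact hηU _
  · obtain ⟨η, hx⟩ := Opens.mem_iSup.1 hx
    exact ⟨U η, hx, le_iSup U η, hiso η⟩

end Groth.Agent.NormAmpleX
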