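import Groth.Agent.NormAmpleX.Model

/-!
# Norms with values in the model, and descent of relative ampleness
-/

universe u

set_option backward.isDefEq.respectTransparency false
set_option backward.isDefEq.respectTransparency.types false
set_option linter.style.haveILetI false
set_option maxHeartbeats 800000

open CategoryTheory AlgebraicGeometry TopologicalSpace Opposite
open Groth.Agent.H23.PicMul

noncomputable section

namespace Groth.Agent.NormAmpleX

open Groth.Agent Groth.Agent.AmpleX Groth.Agent.H23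

variable {X X' : Scheme.{u}} [IsReduced X] (g : X' ⟶ X) [IsFinite g] {D : ℕ}
  (hdvd : ∀ η ∈ genericPoints (X : Type u), deg g η ∣ D)

/-- The norm with values in the model. -/
def modelNorm {W : X.Opens} (hW : IsAffineOpen W) :
    Γ(X', g ⁻¹ᵁ W) →* Γ(model g hdvd, modelπ g hdvd ⁻¹ᵁ W) :=
  (modelSec g hdvd ⟨W, hW⟩).inv.hom.toMonoidHom.comp
    ((ratNorm g D W).codRestrict (normAlg g D W).toSubmonoid (fun a => ratNorm_mem g D W a))

theorem modelSec_modelNorm {W : X.Opens} (hW : IsAffineOpen W) (a : Γ(X', g ⁻¹ᵁ W)) :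
    (modelSec g hdvd ⟨W, hW⟩).hom (modelNorm g hdvd hW a) = ⟨ratNorm g D W a, ratNorm_mem g D W a⟩ :=
  Iso.inv_hom_id_apply (modelSec g hdvd ⟨W, hW⟩) _

theorem modelSec_injective {W : X.Opens} (hW : IsAffineOpen W) :
    Function.Injective (modelSec g hdvd ⟨W, hW⟩).hom :=
  (ConcreteCategory.bijective_of_isIso (modelSec g hdvd ⟨W, hW⟩).hom).1

theorem modelNorm_res {W V : X.Opens} (hW : IsAffineOpen W) (hV : IsAffineOpen V) (f : Γ(X, W))
    (hVf : V = X.basicOpen f) (a : Γ(X', g ⁻¹ᵁ W)) :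
    AModX.resR ((modelπ g hdvd).preimage_mono (hVf.le.trans (X.basicOpen_le f))) (modelNorm g hdvd hW a) =
      modelNorm g hdvd hV (AModX.resR (g.preimage_mono (hVf.le.trans (X.basicOpen_le f))) a) := by
  refine modelSec_injective g hdvd hV ?_
  rw [modelSec_res g hdvd hW hV f hVf, modelSec_modelNorm, modelSec_modelNorm]
  exact Subtype.ext (ratRes_norm g D (hVf.le.trans (X.basicOpen_le f)) a)

theorem modelNorm_app {W : X.Opens} (hW : IsAffineOpen W) (c : Γ(X, W)) :
    modelNorm g hdvd hW (g.app W c) = (modelπ g hdvd).app W c ^ D := by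
  refine modelSec_injective g hdvd hW ?_
  rw [modelSec_modelNorm, map_pow]
  refine Subtype.ext ((ratNorm_app g D hdvd W c).trans ?_)
  have h : (modelSec g hdvd ⟨W, hW⟩).hom ((modelπ g hdvd).app W c) =
      (⟨ratGerm W c, ratGerm_mem g D W c⟩ : normAlg g D W) :=
    ConcreteCategory.congr_hom (app_modelSec g hdvd ⟨W, hW⟩) c
  rw [h]
  rfl

theorem totι_mem_basicOpen {W : X.Opens} (hW : IsAffineOpen W) (p : PrimeSpectrum (normAlg g D W))
    (s : Γ(model g hdvd, modelπ g hdvd ⁻¹ᵁ W)) :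
    SymAlgX.totι (algStr_coequifibered g D hdvd) ⟨W, hW⟩ p ∈ (model g hdvd).basicOpen s ↔
      (modelSec g hdvd ⟨W, hW⟩).hom s ∉ p.asIdeal := by
  let H := algStr_coequifibered g D hdvd
  let V : X.AffineZariskiSite := ⟨W, hW⟩
  let R := CommRingCat.of (normAlg g D W)
  have e := SymAlgX.top_le H V
  let s' := ((SymAlgX.totι H V).appLE (modelπ g hdvd ⁻¹ᵁ W) ⊤ e).hom s
  have h1 : SymAlgX.totι H V p ∈ (model g hdvd).basicOpen s ↔ p ∈ (Spec R).basicOpen s' := by
    have key : ∀ (s₀ : Γ(SymAlgX.tot H, SymAlgX.totπ H ⁻¹ᵁ W)) (p₀ : Spec ((algFunctor g D).obj (op V))),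
        SymAlgX.totι H V p₀ ∈ (SymAlgX.tot H).basicOpen s₀ ↔ p₀ ∈ (Spec ((algFunctor g D).obj (op V))).basicOpen
          ((Spec ((algFunctor g D).obj (op V))).presheaf.map (homOfLE e).op ((SymAlgX.totι H V).app (SymAlgX.totπ H ⁻¹ᵁ W) s₀)) := by
      intro s₀ p₀
      rw [Scheme.basicOpen_res, ← Scheme.preimage_basicOpen]
      exact ⟨fun h => ⟨trivial, h⟩, fun h => h.2⟩
    exact key s p
  have h2 : s' = (Scheme.ΓSpecIso R).inv ((modelSec g hdvd ⟨W, hW⟩).hom s) :=
    (Iso.hom_inv_id_apply (Scheme.ΓSpecIso R) s').symm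
  rw [h1, h2, basicOpen_eq_of_affine]
  exact Iff.rfl

theorem exists_totι {W : X.Opens} (hW : IsAffineOpen W) {z : model g hdvd} (hz : modelπ g hdvd z ∈ W) :
    ∃ p : PrimeSpectrum (normAlg g D W), SymAlgX.totι (algStr_coequifibered g D hdvd) ⟨W, hW⟩ p = z :=
  (SymAlgX.totπ_preimage (algStr_coequifibered g D hdvd) ⟨W, hW⟩).le hz

/-- The norm vanishes where the function vanishes on the whole fibre. -/
theorem modelNorm_vanish [IsNoetherian X] [Surjective g] (hD : 0 < D) {W : X.Opens} (hW : IsAffineOpen W)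
    (a : Γ(X', g ⁻¹ᵁ W)) {z : model g hdvd} (hzW : modelπ g hdvd z ∈ W)
    (h : ∀ z' : X', g z' = modelπ g hdvd z → z' ∉ X'.basicOpen a) :
    z ∉ (model g hdvd).basicOpen (modelNorm g hdvd hW a) := by
  classical
  obtain ⟨q, hq⟩ := exists_totι g hdvd hW hzW
  rw [← hq, totι_mem_basicOpen, not_not, modelSec_modelNorm]
  let y := modelπ g hdvd z
  let str : Γ(X, W) →+* normAlg g D W := (ratGerm W).codRestrict (normAlg g D W) fun c => ratGerm_mem g D W c
  let p : Ideal Γ(X, W) := q.asIdeal.comap str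
  haveI : p.IsPrime := Ideal.comap_isPrime _ _
  have hy : y = hW.fromSpec ⟨p, inferInstance⟩ := by
    show modelπ g hdvd z = _
    rw [← hq]
    show (SymAlgX.totι _ ⟨W, hW⟩ ≫ SymAlgX.totπ (algStr_coequifibered g D hdvd)) q = _
    rw [SymAlgX.totι_π]
    rfl
  letI := (g.app W).hom.toAlgebra
  haveI : Module.Finite Γ(X, W) Γ(X', g ⁻¹ᵁ W) := g.finite_app W hW
  -- `s * a ^ k` lies in `p B`
  obtain ⟨s, hs, k, hk⟩ : ∃ s ∉ p, ∃ k, g.app W s * a ^ k ∈ p.map (algebraMap Γ(X, W) Γ(X', g ⁻¹ᵁ W)) := by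
    by_contra! hno
    let S : Submonoid Γ(X', g ⁻¹ᵁ W) :=
      p.primeCompl.map (g.app W).hom ⊔ Submonoid.powers a
    have hdis : Disjoint (p.map (algebraMap Γ(X, W) Γ(X', g ⁻¹ᵁ W)) : Set Γ(X', g ⁻¹ᵁ W)) S := by
      rw [Set.disjoint_right]
      intro w hw hwp
      obtain ⟨_, ⟨s, hs, rfl⟩, _, ⟨k, rfl⟩, rfl⟩ := Submonoid.mem_sup.1 hw
      exact hno s hs k hwp
    obtain ⟨Q, hQ, hpQ, hQS⟩ := Ideal.exists_le_prime_disjoint _ S hdis
    have hcomap : Ideal.comap (g.app W).hom Q = p := le_antisymm (fun s hs => by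
        by_contra hsp
        exact Set.disjoint_left.1 hQS hs (Submonoid.mem_sup_left ⟨s, hsp, rfl⟩))
      (fun s hs => hpQ (Ideal.mem_map_of_mem _ hs))
    let z' : X' := (hW.preimage g).fromSpec ⟨Q, hQ⟩
    have hz : g z' = y := by
      show ((hW.preimage g).fromSpec ≫ g) ⟨Q, hQ⟩ = y
      rw [hy, ← IsAffineOpen.SpecMap_appLE_fromSpec g hW (hW.preimage g) le_rfl, Scheme.Hom.comp_apply]
      refine congrArg hW.fromSpec (PrimeSpectrum.ext ?_)
      show Ideal.comap (g.appLE W (g ⁻¹ᵁ W) le_rfl).hom Q = p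
      rw [← Scheme.Hom.app_eq_appLE]
      exact hcomap
    refine h z' hz ?_
    have h1 : (⟨Q, hQ⟩ : PrimeSpectrum Γ(X', g ⁻¹ᵁ W)) ∈ (hW.preimage g).fromSpec ⁻¹ᵁ X'.basicOpen a := by
      rw [(hW.preimage g).fromSpec_preimage_basicOpen]
      exact fun hQa => Set.disjoint_left.1 hQS hQa (Submonoid.mem_sup_right (Submonoid.mem_powers a))
    exact h1
  -- a distinguished polynomial
  let a' := g.app W s * a ^ k
  obtain ⟨P, hP, hdeg, hcoeff, hPa⟩ := LinearMap.exists_monic_and_natDegree_eq_and_coeff_mem_pow_and_aeval_eq_zero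
    Γ(X, W) (Algebra.lmul Γ(X, W) Γ(X', g ⁻¹ᵁ W) a') p (by
      rintro _ ⟨b, rfl⟩
      rw [Ideal.smul_top_eq_map, Submodule.restrictScalars_mem]
      exact Ideal.mul_mem_right _ _ hk)
  have hPa' : Polynomial.aeval a' P = 0 := by
    rw [Polynomial.aeval_algHom_apply] at hPa
    have h1 := congrArg (fun q => q (1 : Γ(X', g ⁻¹ᵁ W))) hPa
    simpa using h1
  -- a component through the point
  haveI : Finite (irreducibleComponents (X : Type u)) := (NoetherianSpace.finite_irreducibleComponents (α := X)).to_subtype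
  haveI : Finite (genericPoints (X : Type u)) := Finite.of_equiv _ (genericPoints.equiv (α := X)).symm
  haveI : Finite (GPt W) := Finite.of_injective (β := genericPoints (X : Type u))
    (fun η : GPt W => ⟨η.1, η.2.1⟩) fun a b e => Subtype.ext (congrArg Subtype.val e :)
  haveI := Fintype.ofFinite (GPt W)
  let ev : ∀ η : GPt W, normAlg g D W →+* X.presheaf.stalk η.1 := fun η =>
    (Pi.evalRingHom (fun η' : GPt W => X.presheaf.stalk η'.1) η).comp (normAlg g D W).subtype
  obtain ⟨η, -, hker⟩ := (Ideal.IsPrime.inf_le' (s := Finset.univ) (f := fun η => RingHom.ker (ev η)) q.2).1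
    (fun x hx => by
      have : x = 0 := Subtype.ext (funext fun η => by
        have := Finset.inf_le (f := fun η => RingHom.ker (ev η)) (Finset.mem_univ η) hx
        exact this)
      rw [this]; exact q.asIdeal.zero_mem)
  haveI := finite_fib g η.1
  letI : Algebra (normAlg g D W) (X.presheaf.stalk η.1) := (ev η).toAlgebra
  letI : Algebra (normAlg g D W) (fib g η.1) :=
    ((algebraMap (X.presheaf.stalk η.1) (fib g η.1)).comp (ev η)).toAlgebra
  haveI : IsScalarTower (normAlg g D W) (X.presheaf.stalk η.1) (fib g η.1) := IsScalarTower.of_algebraMap_eq fun _ => rfl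
  have hP0 : Polynomial.aeval (germF g η.1 W η.2.2 a') (P.map str) = 0 := by
    rw [Polynomial.aeval_def, Polynomial.eval₂_map]
    have h1 := congrArg (germF g η.1 W η.2.2) hPa'
    rw [map_zero, Polynomial.aeval_def, Polynomial.hom_eval₂] at h1
    refine Eq.trans ?_ h1
    refine congrArg (fun φ => Polynomial.eval₂ φ (germF g η.1 W η.2.2 a') P) (RingHom.ext fun c => ?_)
    exact (germF_app g η.1 W η.2.2 c).symm
  haveI : Nontrivial (normAlg g D W) := (ev η).domain_nontrivial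
  have hdegP : (P.map str).natDegree = P.natDegree := hP.natDegree_map str
  have hcoeff' : ∀ i < (P.map str).natDegree, (P.map str).coeff i ∈ q.asIdeal := fun i hi => by
    rw [hdegP] at hi
    rw [Polynomial.coeff_map]
    exact (show P.coeff i ∈ p from Ideal.pow_le_self (Nat.sub_ne_zero_of_lt hi) (hcoeff i))
  have hd := deg_pos (g := g) η.2.1
  have he : D / deg g η.1 ≠ 0 := (Nat.div_pos (Nat.le_of_dvd hD (hdvd η.1 η.2.1)) hd).ne'
  let N : normAlg g D W := ⟨ratNorm g D W a, ratNorm_mem g D W a⟩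
  have hmem := mem_of_norm_pow (isField_stalk_of_generic η.2.1) (hP.map str) hP0 q.asIdeal hcoeff' hker hd he
    (v := str s ^ D * N ^ k) (by
      letI := (isField_stalk_of_generic η.2.1).toField
      rw [map_mul, map_pow, map_pow]
      show X.presheaf.germ W η.1 η.2.2 s ^ D * (ratNorm g D W a η) ^ k =
        Algebra.norm (X.presheaf.stalk η.1) (germF g η.1 W η.2.2 (g.app W s * a ^ k)) ^ (D / deg g η.1)
      rw [show ratNorm g D W a η = Algebra.norm (X.presheaf.stalk η.1) (germF g η.1 W η.2.2 a) ^ (D / deg g η.1) from rfl,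
        map_mul (germF g η.1 W η.2.2), map_pow, germF_app, map_mul, map_pow,
        Algebra.norm_algebraMap, mul_pow, ← pow_mul, ← pow_mul, ← pow_mul, mul_comm k,
        show Module.finrank (X.presheaf.stalk η.1) (fib g η.1) = deg g η.1 from rfl, Nat.mul_div_cancel' (hdvd η.1 η.2.1)])
  rcases Ideal.IsPrime.mem_or_mem q.2 hmem with h1 | h1
  · exact absurd (Ideal.IsPrime.mem_of_pow_mem q.2 D h1) hs
  · exact Ideal.IsPrime.mem_of_pow_mem q.2 k h1

/-- The norm is invertible where the function is invertible on the whole fibre. -/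
theorem modelNorm_mem_basicOpen {W : X.Opens} (hW : IsAffineOpen W) (a : Γ(X', g ⁻¹ᵁ W))
    {z : model g hdvd} (hz : modelπ g hdvd z ∈ W) (h : ∀ z' : X', g z' = modelπ g hdvd z → z' ∈ X'.basicOpen a) :
    z ∈ (model g hdvd).basicOpen (modelNorm g hdvd hW a) := by
  let y := modelπ g hdvd z
  have hc : IsClosed (g '' (X'.basicOpen a : Set X')ᶜ) :=
    g.isClosedMap _ (X'.basicOpen a).2.isClosed_compl
  let W₀ : X.Opens := W ⊓ ⟨(g '' (X'.basicOpen a : Set X')ᶜ)ᶜ, hc.isOpen_compl⟩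
  obtain ⟨f, hle, hyf⟩ := hW.exists_basicOpen_le (V := W₀)
    ⟨y, hz, fun ⟨w, hw, hwy⟩ => hw (h w hwy)⟩ hz
  let V := X.basicOpen f
  have hle' : V ≤ W := X.basicOpen_le f
  have hu : IsUnit (AModX.resR (g.preimage_mono hle') a) := by
    refine X'.toRingedSpace.isUnit_of_isUnit_germ _ _ fun w hw => ?_
    rw [show X'.toRingedSpace.presheaf.germ (g ⁻¹ᵁ V) w hw (AModX.resR (g.preimage_mono hle') a) =
      X'.presheaf.germ (g ⁻¹ᵁ W) w (g.preimage_mono hle' hw) a from
        TopCat.Presheaf.germ_res_apply X'.presheaf (homOfLE (g.preimage_mono hle')) w hw a]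
    refine (X'.mem_basicOpen a w (g.preimage_mono hle' hw)).1 ?_
    by_contra hwa
    exact (hle hw).2 ⟨w, hwa, rfl⟩
  have h1 := hu.map (modelNorm g hdvd (hW.basicOpen f))
  rw [← modelNorm_res g hdvd hW (hW.basicOpen f) f rfl] at h1
  have h2 := (model g hdvd).basicOpen_of_isUnit h1
  rw [show AModX.resR ((modelπ g hdvd).preimage_mono hle') (modelNorm g hdvd hW a) =
      (model g hdvd).presheaf.map (homOfLE ((modelπ g hdvd).preimage_mono hle')).op (modelNorm g hdvd hW a) from rfl,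
    Scheme.basicOpen_res] at h2
  exact (h2.ge hyf).2

/-- The norm of a section. -/
theorem exists_norm_section_model [IsNoetherian X] [Surjective g] (hD : 0 < D) {M : X.Modules}
    (hM : PicF.IsInvertible M) (s : Γ((Scheme.Modules.pullback g).obj M, ⊤)) :
    ∃ t : Γ(CohB1.tensorPow ((Scheme.Modules.pullback (modelπ g hdvd)).obj M) D, ⊤),
      (∀ z : model g hdvd, (∀ z' : X', g z' = modelπ g hdvd z → z' ∈ locus s) → z ∈ locus t) ∧
        ∀ z ∈ locus t, ∃ z' : X', g z' = modelπ g hdvd z ∧ z' ∈ locus s := by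
  let π := modelπ g hdvd
  let ι := {W : X.Opens // IsAffineOpen W ∧ ∃ e : Γ(M, W), InvX.IsFrame e}
  have hcovX : ∀ y : X, ∃ i : ι, y ∈ i.1 := fun y => by
    obtain ⟨U, hyU, e, he⟩ := InvX.exists_frame hM y
    obtain ⟨W, hW, hyW, hle⟩ := exists_isAffineOpen_mem_and_subset (x := y) (U := U) hyU
    exact ⟨⟨W, hW, _, he.res hle⟩, hyW⟩
  choose e he using fun i : ι => i.2.2
  choose a ha using fun i : ι => (InvX.isFrame_pullElt g (he i)).exists_coord le_rfl
    (AModX.res _ (le_top : g ⁻¹ᵁ i.1 ≤ ⊤) s)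
  simp only [AModX.res_self] at ha
  let E : ∀ i : ι, Γ((Scheme.Modules.pullback π).obj M, π ⁻¹ᵁ i.1) := fun i => InvX.pullElt π (e i)
  let tf : ∀ i : ι, Γ(CohB1.tensorPow ((Scheme.Modules.pullback π).obj M) D, π ⁻¹ᵁ i.1) := fun i =>
    modelNorm g hdvd i.2.1 (a i) • powElt (E i) D
  obtain ⟨t, ht, -⟩ := AModX.existsUnique_glue (M := CohB1.tensorPow ((Scheme.Modules.pullback π).obj M) D) (V := ⊤)
    (fun i : ι => π ⁻¹ᵁ i.1) (fun _ => le_top) (fun z _ => by
      obtain ⟨i, hi⟩ := hcovX (π z)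
      exact ⟨i, hi⟩) tf (fun i j => by
      refine AModX.eq_of_locally _ _ fun z hz => ?_
      obtain ⟨fi, fj, hfij, hyf⟩ := exists_basicOpen_le_affine_inter i.2.1 j.2.1 (π z) ⟨hz.1, hz.2⟩
      let V := X.basicOpen fi
      have hV : IsAffineOpen V := i.2.1.basicOpen fi
      have hi : V ≤ i.1 := X.basicOpen_le fi
      have hj : V ≤ j.1 := hfij.le.trans (X.basicOpen_le fj)
      refine ⟨π ⁻¹ᵁ V, le_inf (π.preimage_mono hi) (π.preimage_mono hj), hyf, ?_⟩
      rw [AModX.res_res, AModX.res_res]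
      show AModX.res _ (π.preimage_mono hi) (tf i) = AModX.res _ (π.preimage_mono hj) (tf j)
      simp only [tf, E]
      rw [AModX.res_smul, AModX.res_smul, res_powElt, res_powElt, InvX.res_pullElt π hi, InvX.res_pullElt π hj,
        modelNorm_res g hdvd i.2.1 hV fi rfl, modelNorm_res g hdvd j.2.1 hV fj hfij]
      obtain ⟨c, hc⟩ := ((he i).res hi).exists_coord le_rfl (AModX.res M hj (e j))
      rw [AModX.res_self] at hc
      have h1 : AModX.resR (g.preimage_mono hi) (a i) = AModX.resR (g.preimage_mono hj) (a j) * g.app V c := by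
        refine (InvX.isFrame_pullElt g ((he i).res hi)).coord_unique le_rfl ?_
        rw [AModX.res_self, mul_smul, ← InvX.pullElt_smul, ← hc, ← InvX.res_pullElt g hi,
          ← InvX.res_pullElt g hj, ← AModX.res_smul, ← AModX.res_smul, ← ha, ← ha, AModX.res_res, AModX.res_res]
      rw [h1, map_mul, modelNorm_app, mul_smul, ← powElt_smul, ← InvX.pullElt_smul, ← hc])
  have hloc : ∀ i : ι, locus t ⊓ π ⁻¹ᵁ i.1 = (model g hdvd).basicOpen (modelNorm g hdvd i.2.1 (a i)) := fun i =>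
    locus_inf _ _ (isFrame_powElt (InvX.isFrame_pullElt π (he i)) D) (ht i)
  have hls : ∀ i : ι, locus s ⊓ g ⁻¹ᵁ i.1 = X'.basicOpen (a i) := fun i =>
    locus_inf _ _ (InvX.isFrame_pullElt g (he i)) (ha i)
  refine ⟨t, fun z h => ?_, fun z hz => ?_⟩
  · obtain ⟨i, hi⟩ := hcovX (π z)
    have h1 := modelNorm_mem_basicOpen g hdvd i.2.1 (a i) hi fun z' hz' => by
      rw [← hls i]
      exact ⟨h z' hz', show g z' ∈ i.1 from hz' ▸ hi⟩
    rw [← hloc i] at h1
    exact h1.1
  · obtain ⟨i, hi⟩ := hcovX (π z)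
    by_contra! hn
    refine modelNorm_vanish g hdvd hD i.2.1 (a i) hi (fun z' hz' hza => ?_) ((hloc i).le ⟨hz, hi⟩)
    rw [← hls i] at hza
    exact hn z' hz' hza.1

/-- Ampleness descends to the model. -/
theorem isRelAmple_model {Y : Scheme.{u}} [IsAffine Y] [IsNoetherian X] [Surjective g] (hD : 0 < D)
    (f : X ⟶ Y) [QuasiCompact f] {L : X.Modules} (hL : PicF.IsInvertible L)
    (h : RelAmple.IsRelAmple (g ≫ f) ((Scheme.Modules.pullback g).obj L)) :
    RelAmple.IsRelAmple (modelπ g hdvd ≫ f) ((Scheme.Modules.pullback (modelπ g hdvd)).obj L) := by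
  let π := modelπ g hdvd
  have hLπ := PicClLib.isInvertible_pullback π hL
  refine isRelAmple_of_sections hLπ fun x => ?_
  refine ⟨⊤, trivial, (π ≫ f).isCompact_preimage (isAffineOpen_top Y).isCompact, fun z _ => ?_⟩
  obtain ⟨U, hU, hyU, -⟩ := exists_isAffineOpen_mem_and_subset (x := π z) (U := (⊤ : X.Opens)) trivial
  let P' : X'.Opens := (g ≫ f) ⁻¹ᵁ ⊤
  let j := P'.ι
  have hA : CohB1.IsAmple (((Scheme.Modules.pullback g).obj L).restrict j) := h.2 ⟨⊤, isAffineOpen_top Y⟩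
  haveI : P'.toScheme.IsSeparated := isSeparated_of_isAmple hA
  have hfin : (g ⁻¹' {π z}).Finite := g.finite_preimage_singleton _
  obtain ⟨n, s, hZs, hsU, -⟩ := exists_finite_nhd hA (Z := j ⁻¹' (g ⁻¹' {π z}))
    (hfin.preimage j.isOpenEmbedding.injective.injOn) (U := j ⁻¹ᵁ g ⁻¹ᵁ U) fun w hw => by
      show g (j w) ∈ U
      rw [Set.mem_singleton_iff.1 hw]; exact hyU
  have hL' := PicClLib.isInvertible_pullback g hL
  obtain ⟨e⟩ := cl_eq_iff.1 (show PicF.cl (CohB1.tensorPow (((Scheme.Modules.pullback g).obj L).restrict j) (n + 1)) =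
      PicF.cl (((Scheme.Modules.pullback g).obj (CohB1.tensorPow L (n + 1))).restrict j) by
    rw [cl_tensorPow, cl_restrict, cl_restrict,
      show PicF.cl ((Scheme.Modules.pullback g).obj (CohB1.tensorPow L (n + 1))) =
        PicF.pullCl g (PicF.cl (CohB1.tensorPow L (n + 1))) from rfl, cl_tensorPow, pullCl_pow, pullCl_pow]
    rfl)
  let s₀ := e.hom.app ⊤ (InvX.one s)
  let s₁ : Γ((Scheme.Modules.pullback g).obj (CohB1.tensorPow L (n + 1)), ⊤) :=
    AModX.res _ (show (⊤ : X'.Opens) ≤ P'.ι ''ᵁ ⊤ from P'.ι_image_top.ge) s₀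
  have hs₁ : locus s₁ = j ''ᵁ CohB1.genLocus _ s := by
    rw [locus_res, genLocus_eq_locus, ← locus_iso e (InvX.one s),
      image_locus (M := (Scheme.Modules.pullback g).obj (CohB1.tensorPow L (n + 1))) j s₀]
    exact inf_eq_left.2 le_top
  obtain ⟨t, ht1, ht2⟩ := exists_norm_section_model g hdvd hD (InvX.isInvertible_tensorPow hL (n + 1)) s₁
  obtain ⟨b, hb⟩ := exists_locus_cl (N := CohB1.tensorPow ((Scheme.Modules.pullback π).obj L) ((n + 1) * D))
    (show PicF.cl (CohB1.tensorPow ((Scheme.Modules.pullback π).obj (CohB1.tensorPow L (n + 1))) D) = _ by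
      rw [cl_tensorPow, cl_tensorPow,
        show PicF.cl ((Scheme.Modules.pullback π).obj (CohB1.tensorPow L (n + 1))) =
          PicF.pullCl π (PicF.cl (CohB1.tensorPow L (n + 1))) from rfl, cl_tensorPow, pullCl_pow,
        show PicF.cl ((Scheme.Modules.pullback π).obj L) = PicF.pullCl π (PicF.cl L) from rfl, ← pow_mul]) t
  refine ⟨(n + 1) * D, Nat.mul_pos n.succ_pos hD, b, ?_, ?_⟩
  · rw [hb]
    refine ht1 z fun z' hz' => ?_
    rw [hs₁]
    exact ⟨⟨z', trivial⟩, hZs (show g (j ⟨z', trivial⟩) ∈ ({π z} : Set X) from hz'), rfl⟩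
  · rw [hb]
    have hle : locus t ≤ π ⁻¹ᵁ U := fun w hw => by
      obtain ⟨z', hz', hzs⟩ := ht2 w hw
      rw [hs₁] at hzs
      obtain ⟨v, hv, rfl⟩ := hzs
      exact show π w ∈ U from hz' ▸ hsU hv
    rw [← inf_eq_right.2 hle]
    exact isAffineOpen_inf_locus (InvX.isInvertible_tensorPow (PicClLib.isInvertible_pullback π
      (InvX.isInvertible_tensorPow hL _)) _) (hU.preimage π) t le_top

/-- On a normal or free open the norms come from the base. -/
theorem exists_isNorm_on [IsNoetherian X] (D : ℕ) {W : X.Opens}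
    (hW : ∀ x ∈ W, (IsDomain (X.presheaf.stalk x) ∧ IsIntegrallyClosed (X.presheaf.stalk x)) ∨
      ∃ (U : X.Opens) (n : ℕ) (s : Fin n → Γ(pushO g, U)), x ∈ U ∧ Frame.IsFrame (pushO g) s)
    {U : X.Opens} (haff : IsAffineOpen U) (hUW : U ≤ W) (a : Γ(X', g ⁻¹ᵁ U)) : ∃ v, IsNorm g D U a v := by
  haveI : Finite (irreducibleComponents (X : Type u)) := (NoetherianSpace.finite_irreducibleComponents (α := X)).to_subtype
  haveI : Finite (genericPoints (X : Type u)) := Finite.of_equiv _ (genericPoints.equiv (α := X)).symm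
  have hG : (genericPoints (X : Type u)).Finite := Set.toFinite _
  have h1 : ∀ y : U, ∃ (V : X.Opens) (hV : V ≤ U) (v : Γ(X, V)),
      y.1 ∈ V ∧ IsNorm g D V (AModX.resR (g.preimage_mono hV) a) v := fun y => by
    rcases hW y.1 (hUW y.2) with ⟨h1, h2⟩ | ⟨U', n, s, hyU, hs⟩
    · exact exists_isNorm_normal hG haff a y.2
    · obtain ⟨v, hv⟩ := exists_isNorm_frame (D := D) (frame_res hs (inf_le_left : U' ⊓ U ≤ U'))
        (AModX.resR (g.preimage_mono (inf_le_right : U' ⊓ U ≤ U)) a)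
      exact ⟨_, inf_le_right, v, ⟨hyU, y.2⟩, hv⟩
  choose V hV v hyV hv using h1
  obtain ⟨u, hu, -⟩ := X.sheaf.existsUnique_gluing' V U (fun y => homOfLE (hV y))
    (fun x hx => Opens.mem_iSup.2 ⟨⟨x, hx⟩, hyV ⟨x, hx⟩⟩) v (fun y z => by
      refine IsNorm.unique (D := D) (g := g) (a := AModX.resR (g.preimage_mono (inf_le_left.trans (hV y))) a) ?_ ?_
      · have := (hv y).res (inf_le_left : V y ⊓ V z ≤ V y)
        rwa [AModX.resR_resR] at this
      · have := (hv z).res (inf_le_right : V y ⊓ V z ≤ V z)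
        rwa [AModX.resR_resR] at this)
  refine ⟨u, fun η hη hηU => ?_⟩
  have hη' := hyV ⟨η, hηU⟩
  have h2 := hv ⟨η, hηU⟩ η hη hη'
  rw [germF_res g η (hV ⟨η, hηU⟩) hη'] at h2
  rw [← h2, ← germ_resR η (hV ⟨η, hηU⟩) hη']
  exact congrArg _ (hu ⟨η, hηU⟩)

theorem isIso_restrict_normal [IsNoetherian X] {W : X.Opens}
    (hW : ∀ x ∈ W, (IsDomain (X.presheaf.stalk x) ∧ IsIntegrallyClosed (X.presheaf.stalk x)) ∨
      ∃ (U : X.Opens) (n : ℕ) (s : Fin n → Γ(pushO g, U)), x ∈ U ∧ Frame.IsFrame (pushO g) s) :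
    IsIso (modelπ g hdvd ∣_ W) := by
  refine isIso_restrict_of_cover g hdvd fun x hx => ?_
  obtain ⟨U, hU, hxU, hUW⟩ := exists_isAffineOpen_mem_and_subset (x := x) (U := W) hx
  refine ⟨U, hxU, hUW, isIso_restrict_of_surjective g hdvd hU fun z hz => ?_⟩
  refine (Subring.closure_le (t := (ratGerm U).range)).2 ?_ hz
  rintro _ (⟨c, rfl⟩ | ⟨a, rfl⟩)
  · exact ⟨c, rfl⟩
  · obtain ⟨v, hv⟩ := exists_isNorm_on g D hW hU hUW a
    exact ⟨v, funext fun η => hv η.1 η.2.1 η.2.2⟩

end Groth.Agent.NormAmpleX
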