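import Groth.Agent.NormAmpleX.Normal
import Groth.Agent.SymAlgX.OfAffine

/-!
# The algebra generated by the norms of a finite surjective morphism to a reduced scheme
-/

universe u

set_option backward.isDefEq.respectTransparency false
set_option backward.isDefEq.respectTransparency.types false
set_option linter.style.haveILetI false
set_option maxHeartbeats 800000

open CategoryTheory AlgebraicGeometry TopologicalSpace Opposite

noncomputable section

namespace Groth.Agent.NormAmpleX

open Groth.Agent

variable {X X' : Scheme.{u}} (g : X' ⟶ X) (D : ℕ)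

/-- The generic points in an open. -/
abbrev GPt (U : X.Opens) : Type u := {η : X // η ∈ genericPoints (X : Type u) ∧ η ∈ U}

/-- The rational functions on an open. -/
abbrev RatFun (U : X.Opens) : Type u := ∀ η : GPt U, X.presheaf.stalk η.1

/-- Restriction of rational functions. -/
def ratRes {U V : X.Opens} (h : V ≤ U) : RatFun U →+* RatFun V :=
  RingHom.pi fun η => Pi.evalRingHom (fun η' : GPt U => X.presheaf.stalk η'.1) ⟨η.1, η.2.1, h η.2.2⟩

/-- A function as a rational function. -/
def ratGerm (U : X.Opens) : Γ(X, U) →+* RatFun U :=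
  RingHom.pi fun η => (X.presheaf.germ U η.1 η.2.2).hom

theorem ratRes_germ {U V : X.Opens} (h : V ≤ U) (c : Γ(X, U)) :
    ratRes h (ratGerm U c) = ratGerm V (AModX.resR h c) :=
  funext fun η => (germ_resR η.1 h η.2.2 c).symm

theorem ratGerm_injective [IsReduced X] (U : X.Opens) : Function.Injective (ratGerm U) :=
  (injective_iff_map_eq_zero _).2 fun f hf => eq_zero_of_germ_generic f fun η hη hηU =>
    congrFun hf ⟨η, hη, hηU⟩

/-- The norm, as a rational function. -/
def ratNorm (U : X.Opens) : Γ(X', g ⁻¹ᵁ U) →* RatFun U where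
  toFun a η := Algebra.norm (X.presheaf.stalk η.1) (germF g η.1 U η.2.2 a) ^ (D / deg g η.1)
  map_one' := funext fun η => by simp only [map_one, one_pow, Pi.one_apply]
  map_mul' a b := funext fun η => by simp only [map_mul, mul_pow, Pi.mul_apply]

theorem ratRes_norm {U V : X.Opens} (h : V ≤ U) (a : Γ(X', g ⁻¹ᵁ U)) :
    ratRes h (ratNorm g D U a) = ratNorm g D V (AModX.resR (g.preimage_mono h) a) := funext fun η => by
  show Algebra.norm (X.presheaf.stalk η.1) (germF g η.1 U (h η.2.2) a) ^ _ =
    Algebra.norm (X.presheaf.stalk η.1) (germF g η.1 V η.2.2 (AModX.resR (g.preimage_mono h) a)) ^ _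
  rw [germF_res g η.1 h η.2.2]

theorem ratNorm_app (hdvd : ∀ η ∈ genericPoints (X : Type u), deg g η ∣ D) [IsReduced X]
    (U : X.Opens) (c : Γ(X, U)) : ratNorm g D U (g.app U c) = ratGerm U c ^ D := funext fun η => by
  show Algebra.norm (X.presheaf.stalk η.1) (germF g η.1 U η.2.2 (g.app U c)) ^ _ = _
  letI := (isField_stalk_of_generic η.2.1).toField
  rw [germF_app, Algebra.norm_algebraMap, ← pow_mul,
    show Module.finrank (X.presheaf.stalk η.1) (fib g η.1) = deg g η.1 from rfl,
    Nat.mul_div_cancel' (hdvd η.1 η.2.1)]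
  rfl

/-- The algebra generated by the norms. -/
def normAlg (U : X.Opens) : Subring (RatFun U) :=
  Subring.closure (Set.range (ratGerm U) ∪ Set.range (ratNorm g D U))

theorem ratGerm_mem (U : X.Opens) (c : Γ(X, U)) : ratGerm U c ∈ normAlg g D U :=
  Subring.subset_closure (Or.inl ⟨c, rfl⟩)

theorem ratNorm_mem (U : X.Opens) (a : Γ(X', g ⁻¹ᵁ U)) : ratNorm g D U a ∈ normAlg g D U :=
  Subring.subset_closure (Or.inr ⟨a, rfl⟩)

theorem normAlg_le_comap {U V : X.Opens} (h : V ≤ U) : normAlg g D U ≤ (normAlg g D V).comap (ratRes h) := by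
  refine Subring.closure_le.2 ?_
  rintro _ (⟨c, rfl⟩ | ⟨a, rfl⟩)
  · show ratRes h _ ∈ normAlg g D V
    rw [ratRes_germ]
    exact ratGerm_mem g D V _
  · show ratRes h _ ∈ normAlg g D V
    rw [ratRes_norm]
    exact ratNorm_mem g D V _

/-- Restriction on the algebra. -/
def algRes {U V : X.Opens} (h : V ≤ U) : normAlg g D U →+* normAlg g D V :=
  ((ratRes h).comp (normAlg g D U).subtype).codRestrict (normAlg g D V) fun z => normAlg_le_comap g D h z.2

/-- The algebras on the affine opens. -/
def algFunctor : X.AffineZariskiSiteᵒᵖ ⥤ CommRingCat.{u} where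
  obj U := CommRingCat.of (normAlg g D U.unop.1)
  map i := CommRingCat.ofHom (algRes g D (Scheme.AffineZariskiSite.toOpens_mono (leOfHom i.unop)))
  map_id _ := rfl
  map_comp _ _ := rfl

/-- The structure map. -/
def algStr : (Scheme.AffineZariskiSite.toOpensFunctor X).op ⋙ X.presheaf ⟶ algFunctor g D where
  app U := CommRingCat.ofHom ((ratGerm U.unop.1).codRestrict (normAlg g D U.unop.1) fun c => ratGerm_mem g D _ c)
  naturality U V i := CommRingCat.hom_ext (RingHom.ext fun c => Subtype.ext
    (ratRes_germ (Scheme.AffineZariskiSite.toOpens_mono (leOfHom i.unop)) c).symm)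

theorem algRes_isLocalization [IsReduced X] [IsFinite g] (hdvd : ∀ η ∈ genericPoints (X : Type u), deg g η ∣ D)
    {U : X.Opens} (hU : IsAffineOpen U) (f : Γ(X, U)) :
    letI := (algRes g D (X.basicOpen_le f)).toAlgebra
    IsLocalization.Away (⟨ratGerm U f, ratGerm_mem g D U f⟩ : normAlg g D U) (normAlg g D (X.basicOpen f)) := by
  letI := (algRes g D (X.basicOpen_le f)).toAlgebra
  let V := X.basicOpen f
  have hle : V ≤ U := X.basicOpen_le f
  have hres : ∀ z : normAlg g D U, (algebraMap (normAlg g D U) (normAlg g D V) z).1 = ratRes hle z.1 := fun _ => rfl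
  have hfr : ∀ c : Γ(X, U), ratRes hle (ratGerm U c) = ratGerm V (AModX.resR hle c) := ratRes_germ hle
  have hu : IsUnit (AModX.resR hle f) := RingedSpace.isUnit_res_basicOpen X.toRingedSpace f
  refine IsLocalization.Away.mk _ ?_ ?_ ?_
  · obtain ⟨c, hc⟩ := hu.exists_right_inv
    refine IsUnit.of_mul_eq_one ⟨ratGerm V c, ratGerm_mem g D V c⟩ (Subtype.ext ?_)
    show (algebraMap (normAlg g D U) (normAlg g D V) _).1 * ratGerm V c = 1
    rw [hres, hfr, ← map_mul, hc, map_one]
  · intro z
    have hz : ∀ w, w ∈ normAlg g D V → ∃ (n : ℕ) (b : normAlg g D U), w * ratRes hle (ratGerm U f) ^ n = ratRes hle b.1 := by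
      intro w hw
      induction hw using Subring.closure_induction with
      | mem w hw =>
        rcases hw with ⟨c, rfl⟩ | ⟨a, rfl⟩
        · haveI := hU.isLocalization_basicOpen f
          obtain ⟨⟨b, ⟨_, n, rfl⟩⟩, hb⟩ := IsLocalization.surj (Submonoid.powers f) c
          refine ⟨n, ⟨ratGerm U b, ratGerm_mem g D U b⟩, ?_⟩
          show ratGerm V c * _ = ratRes hle (ratGerm U b)
          rw [hfr, hfr, ← map_pow, ← map_mul, ← map_pow]
          exact congrArg _ hb
        · haveI := (hU.preimage g).isLocalization_basicOpen (g.app U f)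
          obtain ⟨⟨b, ⟨_, n, rfl⟩⟩, hb⟩ := IsLocalization.surj (Submonoid.powers (g.app U f))
            (AModX.resR (g.preimage_basicOpen f).ge a)
          refine ⟨D * n, ⟨ratNorm g D U b, ratNorm_mem g D U b⟩, ?_⟩
          show ratNorm g D V a * _ = ratRes hle (ratNorm g D U b)
          rw [pow_mul, ← map_pow (ratRes hle), ← ratNorm_app g D hdvd U f, ← map_pow (ratRes hle),
            ← map_pow (ratNorm g D U), ratRes_norm, ratRes_norm, ← map_mul]
          refine congrArg _ ?_
          have h1 := congrArg (AModX.resR (g.preimage_basicOpen f).le) hb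
          change AModX.resR (g.preimage_basicOpen f).le (AModX.resR (g.preimage_basicOpen f).ge a *
              AModX.resR (X'.basicOpen_le (g.app U f)) (g.app U f ^ n)) =
            AModX.resR (g.preimage_basicOpen f).le (AModX.resR (X'.basicOpen_le (g.app U f)) b) at h1
          rw [map_mul, AModX.resR_resR, AModX.resR_resR, AModX.resR_resR, AModX.resR_self] at h1
          exact h1
      | zero => exact ⟨0, 0, by rw [zero_mul]; exact (map_zero _).symm⟩
      | one => exact ⟨0, 1, by rw [one_mul, pow_zero]; exact (map_one _).symm⟩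
      | add a b _ _ ha hb =>
        obtain ⟨n, p, hp⟩ := ha
        obtain ⟨m, q, hq⟩ := hb
        refine ⟨n + m, p * ⟨ratGerm U f, ratGerm_mem g D U f⟩ ^ m + q * ⟨ratGerm U f, ratGerm_mem g D U f⟩ ^ n, ?_⟩
        show _ = ratRes hle (p.1 * ratGerm U f ^ m + q.1 * ratGerm U f ^ n)
        rw [map_add, map_mul, map_mul, ← hp, ← hq, map_pow, map_pow]
        ring
      | neg a _ ha =>
        obtain ⟨n, p, hp⟩ := ha
        refine ⟨n, -p, ?_⟩
        show _ = ratRes hle (-p.1)
        rw [map_neg, ← hp, neg_mul]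
      | mul a b _ _ ha hb =>
        obtain ⟨n, p, hp⟩ := ha
        obtain ⟨m, q, hq⟩ := hb
        refine ⟨n + m, p * q, ?_⟩
        show _ = ratRes hle (p.1 * q.1)
        rw [map_mul, ← hp, ← hq]
        ring
    obtain ⟨n, b, hb⟩ := hz z.1 z.2
    refine ⟨n, b, Subtype.ext ?_⟩
    show z.1 * ((algebraMap (normAlg g D U) (normAlg g D V)) ⟨ratGerm U f, _⟩).1 ^ n = _
    rw [hres, hres, hb]
  · intro p q hpq
    refine ⟨1, Subtype.ext (funext fun η => ?_)⟩
    show ratGerm U f η ^ 1 * p.1 η = ratGerm U f η ^ 1 * q.1 η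
    by_cases hη : η.1 ∈ V
    · have h1 := congrFun (congrArg Subtype.val hpq) ⟨η.1, η.2.1, hη⟩
      rw [hres, hres] at h1
      exact congrArg (_ * ·) h1
    · letI := (isField_stalk_of_generic η.2.1).toField
      have h0 : ratGerm U f η = 0 := by
        by_contra hne
        exact hη ((X.mem_basicOpen f η.1 η.2.2).2 (isUnit_iff_ne_zero.2 hne))
      rw [h0, zero_pow one_ne_zero, zero_mul, zero_mul]

theorem algStr_coequifibered [IsReduced X] [IsFinite g] (hdvd : ∀ η ∈ genericPoints (X : Type u), deg g η ∣ D) :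
    (algStr g D).Coequifibered := by
  rw [Scheme.AffineZariskiSite.coequifibered_iff_forall_isLocalizationAway]
  exact fun U f => algRes_isLocalization g D hdvd U.2 f

theorem isReduced_normAlg [IsReduced X] (U : X.Opens) : _root_.IsReduced (normAlg g D U) := by
  haveI : ∀ η : GPt U, _root_.IsReduced (X.presheaf.stalk η.1) := fun η => inferInstance
  exact isReduced_of_injective (normAlg g D U).subtype Subtype.val_injective

end Groth.Agent.NormAmpleX
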